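import Cfsg.Agent.H7Fischer.Pattern
import Cfsg.Agent.Symplectic.AutClass
import Cfsg.Agent.Symplectic.AltStd
import Cfsg.Agent.H44.OrthTransvection

/-!
Classes with the triangle property, read in the symplectic and orthogonal transvection models.
-/

set_option autoImplicit false
set_option linter.unusedSectionVars false

namespace Cfsg.Agent.H7Fischer

open Cfsg
open H76.LocallyS3 (nb cj cj_cj cj_injective commute_cj_iff)
open H80.TTQuad (Cls cj_one cj_inv_cj cj_cj_inv cj_eq_of_commute commute_of_cj_eq nb_symm)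

universe u v w

variable {G : Type u} [Group G] {D : Set G}

theorem vec_mv (H : Cls D) (hT : Triangle D) (a b : ↥D) :
    vec (mv H (a : G) b) = vec b + form D (vec b) (vec a) • vec a := by
  rcases z2_cases (form D (vec b) (vec a)) with e | e
  · rw [e, zero_smul, add_zero]
    exact congrArg vec (Subtype.ext (cj_eq_of_commute (form_vec_zero.1 e).symm))
  · rw [e, one_smul, add_comm]
    exact vec_third H hT (by rw [form_comm, e])

/-- A model in which the members are transvections gives an isomorphism. -/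
theorem isoTo_of_vectors [Finite G] (H : Cls D) (hT : Triangle D) {W : Type w} [AddCommGroup W]
    [Module (ZMod 2) W] (E : space D ≃ₗ[ZMod 2] W) {G' : Type v} [Group G'] {D' : Set G'}
    (hgen' : Subgroup.closure D' = ⊤) (T : W → G') (act : G' → W → W) (P : W → Prop)
    (hlin : ∀ g x y, act g (x + y) = act g x + act g y)
    (hzero : ∀ g, act g 0 = 0)
    (hfaith : ∀ g, (∀ x, act g x = x) → g = 1)
    (hP : ∀ a, P (E (vec a))) (hPact : ∀ g x, P x → P (act g x))
    (hinj : ∀ x y, P x → P y → T x = T y → x = y)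
    (hsq : ∀ a, T (E (vec a)) * T (E (vec a)) = 1)
    (hmem : ∀ g, g ∈ D' ↔ ∃ a, g = T (E (vec a)))
    (hconj : ∀ g a, cj g (T (E (vec a))) = T (act g (E (vec a))))
    (hformula : ∀ a b, act (T (E (vec a))) (E (vec b)) =
      E (vec b) + form D (vec b) (vec a) • E (vec a)) :
    IsoTo D D' := by
  let f : ↥D → ↥D' := fun a => ⟨T (E (vec a)), (hmem _).2 ⟨a, rfl⟩⟩
  have hbij : Function.Bijective f := by
    refine ⟨fun a b h => ?_, fun g => ?_⟩
    · exact vec_injective H (E.injective (hinj _ _ (hP a) (hP b) (congrArg Subtype.val h)))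
    · obtain ⟨a, ha⟩ := (hmem g).1 g.2
      exact ⟨a, Subtype.ext ha.symm⟩
  refine isoTo_of_equivariant H.cl.2.2 hgen' (fun g hg => H.eq_one_of_fix hg) ?_
    (fun a ha => H.sq ha) ?_ (fun a _ b hb => H.mem_cj a hb) (Equiv.ofBijective f hbij) fun a b => ?_
  · intro g hg
    have hfix : ∀ a, act g (E (vec a)) = E (vec a) := fun a => by
      refine hinj _ _ (hPact g _ (hP a)) (hP a) ?_
      rw [← hconj]
      exact hg _ ((hmem _).2 ⟨a, rfl⟩)
    refine hfaith g fun x => ?_
    obtain ⟨v, rfl⟩ := E.surjective x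
    induction v using space_induction with
    | zero => rw [map_zero, hzero]
    | add v a ih => rw [map_add, hlin, ih, hfix a]
  · intro g hg
    obtain ⟨a, rfl⟩ := (hmem g).1 hg
    exact hsq a
  · show T (E (vec (mv H (a : G) b))) = cj (T (E (vec a))) (T (E (vec b)))
    rw [hconj, hformula, vec_mv H hT, map_add, map_smul]

/-! ### the symplectic model -/

section Symp

open Symplectic (Mat spB spB_alt sp_ext T_mulVec)
open scoped Matrix

variable {m : ℕ}

theorem sympT_ne_one {v : Fin m ⊕ Fin m → ZMod 2} (hv : v ≠ 0) : Symplectic.T v (1 : ZMod 2) ≠ 1 := by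
  intro h
  obtain ⟨y, hy⟩ := Symplectic.exists_partner (Symplectic.spB_nondeg m (ZMod 2)) (spB_alt m (ZMod 2)) hv
  have hy' : Cfsg.sympForm m (ZMod 2) y v = 1 := by
    rw [← Symplectic.spB_apply, Symplectic.alt_swap (spB_alt m (ZMod 2)), hy]
    decide
  have := congrArg (fun g : Matrix.symplecticGroup (Fin m) (ZMod 2) => (g : Mat m (ZMod 2)) *ᵥ y) h
  simp only [T_mulVec, hy', mul_one, one_smul, Submonoid.coe_one, Matrix.one_mulVec] at this
  exact hv (by simpa using this)

/-- The elements with `g - 1` of rank one are the transvections. -/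
theorem mem_symTv_iff (g : Matrix.symplecticGroup (Fin m) (ZMod 2)) :
    g ∈ symTv m ↔ ∃ v, v ≠ 0 ∧ g = Symplectic.T v 1 := by
  constructor
  · intro h
    have h1 : Module.finrank (ZMod 2) (LinearMap.range (Symplectic.nil g)) = 1 := h
    obtain ⟨v, c, hv, hc, e⟩ := Symplectic.exists_T_of_finrank_one g (fun e => by
      have h0 : Symplectic.nil g = 0 := LinearMap.ext fun x => by
        rw [Symplectic.nil_apply, e, Submonoid.coe_one, Matrix.one_mulVec, sub_self]; rfl
      rw [h0, LinearMap.range_zero, finrank_bot] at h1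
      exact zero_ne_one h1) h1.le
    exact ⟨v, hv, by rw [e, (z2_cases c).resolve_left hc]⟩
  · rintro ⟨v, hv, rfl⟩
    show Matrix.rank _ = 1
    refine le_antisymm ?_ (Nat.one_le_iff_ne_zero.2 fun h0 => sympT_ne_one hv ?_)
    · rw [Matrix.rank]
      refine (Submodule.finrank_mono (t := Submodule.span (ZMod 2) {v}) ?_).trans
        (finrank_span_singleton hv).le
      rintro _ ⟨x, rfl⟩
      rw [Matrix.mulVecLin_apply, Matrix.sub_mulVec, T_mulVec, Matrix.one_mulVec, add_sub_cancel_left]
      exact Submodule.smul_mem _ _ (Submodule.mem_span_singleton_self v)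
    · rw [Matrix.rank, Submodule.finrank_eq_zero, LinearMap.range_eq_bot] at h0
      refine sp_ext fun x => ?_
      have := LinearMap.congr_fun h0 x
      rw [Matrix.mulVecLin_apply, Matrix.sub_mulVec, Matrix.one_mulVec, LinearMap.zero_apply,
        sub_eq_zero] at this
      rw [this, Submonoid.coe_one, Matrix.one_mulVec]

theorem closure_symTv : Subgroup.closure (symTv m) = ⊤ := by
  rw [eq_top_iff, ← Symplectic.closure_TSet m (ZMod 2), Subgroup.closure_le]
  rintro _ ⟨v, c, rfl⟩
  rcases z2_cases c with rfl | rfl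
  · rw [Symplectic.T_zero]; exact one_mem _
  by_cases hv : v = 0
  · subst hv
    rw [show Symplectic.T (0 : Fin m ⊕ Fin m → ZMod 2) (1 : ZMod 2) = 1 from
      sp_ext fun x => by simp [T_mulVec]]
    exact one_mem _
  exact Subgroup.subset_closure ((mem_symTv_iff _).2 ⟨v, hv, rfl⟩)

theorem sympT_inj {v w : Fin m ⊕ Fin m → ZMod 2} (hv : v ≠ 0) (hw : w ≠ 0)
    (h : Symplectic.T v (1 : ZMod 2) = Symplectic.T w 1) : v = w := by
  obtain ⟨y, hy⟩ := Symplectic.exists_partner (Symplectic.spB_nondeg m (ZMod 2)) (spB_alt m (ZMod 2)) hv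
  have hy' : Cfsg.sympForm m (ZMod 2) y v = 1 := by
    rw [← Symplectic.spB_apply, Symplectic.alt_swap (spB_alt m (ZMod 2)), hy]
    decide
  have h1 := congrArg (fun g : Matrix.symplecticGroup (Fin m) (ZMod 2) => (g : Mat m (ZMod 2)) *ᵥ y) h
  simp only [T_mulVec, hy', mul_one, one_mul, one_smul, add_right_inj] at h1
  rcases z2_cases (Cfsg.sympForm m (ZMod 2) y w) with e | e
  · rw [e, zero_smul] at h1; exact absurd h1 hv
  · rwa [e, one_smul] at h1

end Symp

/-- If every non-zero vector is a member, the class is the symplectic transvection class. -/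
theorem isSymp_of_full [Finite G] (H : Cls D) (hT : Triangle D)
    (hfull : ∀ v : space D, v ≠ 0 → ∃ a, vec a = v) : IsSymp D := by
  classical
  obtain ⟨m, E, -, hE⟩ := Symplectic.exists_std_equiv form_isAlt (form_nondegenerate (D := D))
  refine ⟨m, isoTo_of_vectors H hT E closure_symTv (fun x => Symplectic.T x 1)
    (fun g x => Matrix.mulVec (g : Symplectic.Mat m (ZMod 2)) x) (fun x => x ≠ 0)
    (fun g x y => Matrix.mulVec_add _ x y) (fun g => Matrix.mulVec_zero _)
    (fun g h => Symplectic.sp_ext fun x => by rw [h x, Submonoid.coe_one, Matrix.one_mulVec])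
    (fun a h => vec_ne_zero H a (E.map_eq_zero_iff.1 h))
    (fun g x hx h => hx ?_) (fun x y => sympT_inj) (fun a => ?_) (fun g => ?_)
    (fun g a => Symplectic.T_conj g _ 1) (fun a b => ?_)⟩
  · have := congrArg (Matrix.mulVec ((g⁻¹ : Matrix.symplecticGroup (Fin m) (ZMod 2)) :
      Symplectic.Mat m (ZMod 2))) h
    rwa [Matrix.mulVec_mulVec, ← Submonoid.coe_mul, inv_mul_cancel, Submonoid.coe_one,
      Matrix.one_mulVec, Matrix.mulVec_zero] at this
  · rw [Symplectic.T_mul, show (1 : ZMod 2) + 1 = 0 from rfl, Symplectic.T_zero]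
  · rw [mem_symTv_iff]
    constructor
    · rintro ⟨v, hv, rfl⟩
      obtain ⟨u, rfl⟩ := E.surjective v
      obtain ⟨a, rfl⟩ := hfull u fun e => hv (by rw [e, map_zero])
      exact ⟨a, rfl⟩
    · rintro ⟨a, rfl⟩
      exact ⟨_, fun h => vec_ne_zero H a (E.map_eq_zero_iff.1 h), rfl⟩
  · show Matrix.mulVec (Symplectic.T (E (vec a)) (1 : ZMod 2) : Symplectic.Mat m (ZMod 2)) _ = _
    rw [Symplectic.T_mulVec, one_mul, hE]

/-! ### the orthogonal model -/

open Orthogonal (O rO toO)

/-- If the members are the non-singular vectors of a form in coordinates, the class is its class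
of orthogonal transvections. -/
theorem isoTo_orth [Finite G] (H : Cls D) (hT : Triangle D) {ι : Type} [Fintype ι] [DecidableEq ι]
    {Q : QuadraticForm (ZMod 2) (ι → ZMod 2)} (hQ : Orthogonal.Nondeg Q) (hn : Fintype.card ι ≠ 4)
    (E : space D ≃ₗ[ZMod 2] (ι → ZMod 2))
    (hE : ∀ u v, QuadraticMap.polar Q (E u) (E v) = form D u v)
    (hS : ∀ x, Q x = 1 ↔ ∃ a, E (vec a) = x) : IsoTo D (orthTv (⇑Q)) := by
  classical
  obtain ⟨a₀, ha₀⟩ := H.nonempty
  have hQ1 : ∀ a : ↥D, Q (E (vec a)) = 1 := fun a => (hS _).2 ⟨a, rfl⟩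
  have hcl := H44.isThreeTranspositionClass_transvections hQ hn ⟨_, hQ1 ⟨a₀, ha₀⟩⟩
  have happ : ∀ v x, Q v = 1 → (rO Q v : (ι → ZMod 2) ≃ₗ[ZMod 2] (ι → ZMod 2)) x =
      x + QuadraticMap.polar Q x v • v := fun v x hv => by
    rw [Orthogonal.rO_app, hv, inv_one, one_mul, QuadraticMap.polar_comm, sub_eq_add_neg]
    congr 1
    funext i
    exact ZMod.neg_eq_self_mod_two _
  refine isoTo_of_vectors H hT E hcl.2.2 (Orthogonal.reflIso Q)
    (fun g x => (toO Q g : (ι → ZMod 2) ≃ₗ[ZMod 2] (ι → ZMod 2)) x) (fun x => Q x = 1)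
    (fun g x y => map_add _ x y) (fun g => map_zero _)
    (fun g h => (toO Q).injective (by rw [map_one]; exact Orthogonal.O.ext_app h)) hQ1
    (fun g x hx => by rw [Orthogonal.O.map_app]; exact hx) (fun x y hx hy h => ?_) (fun a => ?_)
    (fun g => ?_) (fun g a => ?_) (fun a b => ?_)
  · have h' : rO Q x = rO Q y := by
      have := congrArg (toO Q) h
      rwa [Orthogonal.reflIso, Orthogonal.reflIso, MulEquiv.apply_symm_apply,
        MulEquiv.apply_symm_apply] at this
    obtain ⟨z, hz⟩ := hQ.exists_polar_ne (x := x) fun e => by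
      rw [e, QuadraticMap.map_zero] at hx; exact zero_ne_one hx
    have h2 := congrArg (fun f : O Q => (f : (ι → ZMod 2) ≃ₗ[ZMod 2] (ι → ZMod 2)) z) h'
    simp only [happ _ _ hx, happ _ _ hy, add_right_inj] at h2
    rw [QuadraticMap.polar_comm, H44.f2_ne hz, one_smul] at h2
    rcases z2_cases (QuadraticMap.polar Q z y) with e | e
    · rw [e, zero_smul] at h2
      rw [h2, QuadraticMap.map_zero] at hx
      exact absurd hx zero_ne_one
    · rwa [e, one_smul] at h2
  · apply (toO Q).injective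
    rw [map_mul, map_one, Orthogonal.reflIso, MulEquiv.apply_symm_apply, Orthogonal.rO_mul_self]
  · show _ = 1 ↔ _
    rw [H44.rank_sub_one_iff hQ]
    constructor
    · rintro ⟨v, hv, hg⟩
      obtain ⟨a, rfl⟩ := (hS v).1 hv
      exact ⟨a, by rw [Orthogonal.reflIso, ← hg, MulEquiv.symm_apply_apply]⟩
    · rintro ⟨a, rfl⟩
      exact ⟨_, hQ1 a, MulEquiv.apply_symm_apply _ _⟩
  · apply (toO Q).injective
    rw [cj, map_mul, map_mul, map_inv, Orthogonal.reflIso, Orthogonal.reflIso,
      MulEquiv.apply_symm_apply, MulEquiv.apply_symm_apply, Orthogonal.conj_rO]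
  · rw [Orthogonal.reflIso, MulEquiv.apply_symm_apply, happ _ _ (hQ1 a), hE]

end Cfsg.Agent.H7Fischer
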