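import Cfsg.Agent.H7Fischer.Noncentral
import Cfsg.Agent.H97.Refl3.Main
import Cfsg.Agent.H97.Minus.Five
import Cfsg.Agent.H80.TTFischer.Final
import Cfsg.Agent.H41.FischerTop.M22Step
import Cfsg.Agent.H41.FischerTop.M24Step

/-!
Fischer's theorem: connected classes with central local cores.
-/

set_option autoImplicit false
set_option linter.unusedSectionVars false

namespace Cfsg.Agent.H7Fischer

open Cfsg
open H76.LocallyS3 (nb cj cj_cj cj_injective commute_cj_iff)
open H80.TTQuad (Cls cj_one cj_inv_cj cj_cj_inv cj_eq_of_commute commute_of_cj_eq nb_symm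
  commute_of_mem_closure_nb)
open H93 (nbSub Residue)

universe u

/-- A residue of type M(23) gives type M(24). -/
def M23Step : Prop :=
  ∀ {G : Type u} [Group G] [Finite G] {D : Set G}, Cls D → Central D → Conn D →
    ¬ Triangle D → ∀ {d : G}, d ∈ D → IsM23' (res D d) → Cfsg.IsOfTypeM24 G D

/-- The list. -/
def Known {G : Type u} [Group G] (D : Set G) : Prop :=
  Triangle D ∨ (∃ (n : ℕ) (μ c : ZMod 3), 5 ≤ n ∧ IsOrthThree D n μ c) ∨
    IsM22' D ∨ IsM23' D ∨ Cfsg.IsOfTypeM24 G D

variable {G : Type u} [Group G] [Finite G] {D : Set G}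

theorem card_residue_lt (H : Cls D) {d : G} (hd : d ∈ D) :
    Nat.card (Residue D d) < Nat.card G := by
  refine (Nat.card_le_card_of_surjective _ QuotientGroup.mk_surjective).trans_lt ?_
  refine lt_of_le_of_ne (Subgroup.card_le_card_group _) fun h => ?_
  have htop : nbSub D d = ⊤ := Subgroup.eq_top_of_card_eq _ h
  obtain ⟨f, hf, hdf⟩ := H.exists_noncommute hd
  exact hdf (commute_of_mem_closure_nb (D := D) (x := d)
    (show f ∈ nbSub D d by rw [htop]; trivial)).symm

theorem orth_of_residue (H : Cls D) (hC : Central D) (hconn : Conn D) {d : G} (hd : d ∈ D)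
    {n : ℕ} (hn : 5 ≤ n) {μ c : ZMod 3} (h : IsOrthThree (res D d) n μ c) : Known D :=
  Or.inr (Or.inl ⟨n + 1, -c * μ, c, by omega, H97.Refl3.orth_three_step H hC hconn hd hn h⟩)

theorem known_of (h23 : M23Step.{u}) : ∀ (N : ℕ) {G : Type u} [Group G] [Finite G] {D : Set G},
    Nat.card G = N → Cls D → Central D → Conn D → Known D := by
  intro N
  induction N using Nat.strong_induction_on with
  | _ N ih =>
    intro G _ _ D hN H hC hconn
    by_cases hT : Triangle D
    · exact Or.inl hT
    obtain ⟨d, hd⟩ := H.nonempty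
    have HR := res_cls H hC hd
    have hRc := res_conn H hC hconn hd
    have htri : Triangle (res D d) → Known D := fun h => by
      rcases residue_triangle H hC hconn hd h with h' | h'
      · exact absurd h' hT
      · obtain ⟨c, hc⟩ := H97.Minus.isOrthThree_five_of_orth_minus h'
        exact orth_of_residue H hC hconn hd le_rfl hc
    by_cases hRC : Central (res D d)
    · rcases ih _ (hN ▸ card_residue_lt H hd) rfl HR hRC hRc with
        h | ⟨n, μ, c, hn, h⟩ | h | h | h
      · exact htri h
      · exact orth_of_residue H hC hconn hd hn h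
      · exact Or.inr (Or.inr (Or.inr (Or.inl
          (H41.FischerTop.m22_step (fun H hC hconn _ _ hd _ _ _ hn hR =>
            H97.Refl3.orth_three_step H hC hconn hd hn hR) H hC hconn hd h))))
      · exact Or.inr (Or.inr (Or.inr (Or.inr (h23 H hC hconn hT hd h))))
      · exact (H41.FischerTop.m24_step H hC hconn hd hRc h).elim
    rcases noncentral_cases HR hRc hRC with h | ⟨n, hn, h⟩
    · exact htri h
    rcases eq_or_lt_of_le hn with rfl | hn5
    · obtain ⟨c, hc⟩ := H80.TTFischer.unit_four_orth h
      exact orth_of_residue H hC hconn hd le_rfl hc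
    · exact Or.inr (Or.inr (Or.inl (H80.TTFischer.unitary_step H hC hconn hT hd hn5 h).2))

/-- Fischer's theorem for connected classes with central local cores. -/
theorem classification (h23 : M23Step.{u}) (H : Cls D) (hC : Central D) (hconn : Conn D) :
    IsOrthTwo D ∨ (∃ n, 7 ≤ n ∧ IsoTo D (swaps n)) ∨
      (∃ (n : ℕ) (μ c : ZMod 3), 5 ≤ n ∧ IsOrthThree D n μ c) ∨
      IsM22' D ∨ IsM23' D ∨ Cfsg.IsOfTypeM24 G D := by
  rcases known_of h23 _ rfl H hC hconn with h | h | h | h | h
  · rcases triangle_central H h hC with h' | h'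
    · exact Or.inl h'
    · exact Or.inr (Or.inl h')
  · exact Or.inr (Or.inr (Or.inl h))
  · exact Or.inr (Or.inr (Or.inr (Or.inl h)))
  · exact Or.inr (Or.inr (Or.inr (Or.inr (Or.inl h))))
  · exact Or.inr (Or.inr (Or.inr (Or.inr (Or.inr h))))

end Cfsg.Agent.H7Fischer
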