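import Cfsg.Agent.H7Fischer.Residue

/-!
A class whose residues have the triangle property and which has not: two members with a common
neighbour and a line at one of them avoiding the other.
-/

set_option autoImplicit false
set_option linter.unusedSectionVars false

namespace Cfsg.Agent.H7Fischer

open Cfsg
open H76.LocallyS3 (nb cj cj_cj cj_injective commute_cj_iff)
open H80.TTQuad (Cls cj_one cj_inv_cj cj_cj_inv cj_eq_of_commute commute_of_cj_eq nb_symm
  commute_of_mem_closure_nb)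
open H93 (nbSub Residue)

universe u

variable {G : Type u} [Group G] {D : Set G}

/-- The triangle property among the members at `d`. -/
def TriAt (D : Set G) (d : G) : Prop :=
  ∀ x ∈ nb D d, ∀ y ∈ nb D d, ¬ Commute x y → ∀ z ∈ nb D d,
    (Commute z (cj x y) ↔ (Commute z x ↔ Commute z y))

theorem cj_third_left (H : Cls D) {x y : G} (hx : x ∈ D) (hy : y ∈ D) (h : ¬ Commute x y) :
    cj y (cj x y) = x := by
  rw [H.braid hx hy h, H.cj_invol hy]

theorem cj_third_right (H : Cls D) {x : G} (hx : x ∈ D) (y : G) : cj x (cj x y) = y :=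
  H.cj_invol hx y

theorem commute_third (H : Cls D) {x y z : G} (h1 : Commute z x) (h2 : Commute z y) :
    Commute z (cj x y) := by
  have h := commute_cj_iff (g := x) (x := z) (y := y)
  rw [cj_eq_of_commute h1.symm] at h
  exact h.2 h2

variable [Finite G]

theorem triAt_cj (H : Cls D) (g : G) {d : G} (h : TriAt D d) : TriAt D (cj g d) := by
  intro x hx y hy hn z hz
  have hb : ∀ {w : G}, w ∈ nb D (cj g d) → cj g⁻¹ w ∈ nb D d := fun {w} hw => by
    have := H.cj_nb g⁻¹ hw
    rwa [cj_inv_cj] at this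
  have h' := h _ (hb hx) _ (hb hy) (fun q => hn (commute_cj_iff.1 q)) _ (hb hz)
  have e : cj (cj g⁻¹ x) (cj g⁻¹ y) = cj g⁻¹ (cj x y) := by
    simp only [cj]; group
  rw [e, commute_cj_iff, commute_cj_iff, commute_cj_iff] at h'
  exact h'

/-- A triangular residue gives the triangle property at every member. -/
theorem triAt_of_res (H : Cls D) {d : G} (hd : d ∈ D) (hT : Triangle (res D d)) {e : G}
    (he : e ∈ D) : TriAt D e := by
  obtain ⟨g, rfl⟩ := H.exists_cj hd he
  refine triAt_cj H g fun x hx y hy hn z hz => ?_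
  have h := hT _ (rmk_mem hx) _ (rmk_mem hy) (fun q => hn ((commute_rmk H hx hy).1 q)) _ (rmk_mem hz)
  rwa [← rmk_cj H hx hy, commute_rmk H hz, commute_rmk H hz hx, commute_rmk H hz hy] at h

/-- A bad line: `c` misses the line of `p`, `q` at `d`, and `a` commutes with `d`, `c`, `p`. -/
structure BadCfg (D : Set G) (d c a p q : G) : Prop where
  hd : d ∈ D
  hc : c ∈ D
  far : ¬ Commute d c
  ha : a ∈ nb D d
  hac : Commute c a
  hp : p ∈ nb D d
  hq : q ∈ nb D d
  hpq : ¬ Commute p q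
  hcp : ¬ Commute c p
  hcq : ¬ Commute c q
  hcr : ¬ Commute c (cj p q)
  hap : Commute a p
  haq : ¬ Commute a q

section Bad

variable (H : Cls D) (hTA : ∀ e ∈ D, TriAt D e)
include H hTA

/-- A member at `d` commuting with `c` commutes with exactly one member of the line. -/
theorem exactlyOne {d c p q t : G} (hd : d ∈ D) (hc : c ∈ D) (hfar : ¬ Commute d c)
    (hp : p ∈ nb D d) (hq : q ∈ nb D d) (hpq : ¬ Commute p q) (hcp : ¬ Commute c p)
    (hcq : ¬ Commute c q) (hcr : ¬ Commute c (cj p q)) (ht : t ∈ nb D d) (htc : Commute c t) :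
    (Commute t p ∧ ¬ Commute t q ∧ ¬ Commute t (cj p q)) ∨
      (¬ Commute t p ∧ Commute t q ∧ ¬ Commute t (cj p q)) ∨
      (¬ Commute t p ∧ ¬ Commute t q ∧ Commute t (cj p q)) := by
  have hall : ¬ (Commute t p ∧ Commute t q) := by
    rintro ⟨h1, h2⟩
    have mc : c ∈ nb D t := ⟨hc, fun e => hfar (e ▸ ht.2.2), htc.symm⟩
    have mp : p ∈ nb D t := ⟨hp.1, fun e => hcp (e ▸ htc), h1⟩
    have mq : q ∈ nb D t := ⟨hq.1, fun e => hcq (e ▸ htc), h2⟩
    exact hcr ((hTA t ht.1 p mp q mq hpq c mc).2 ⟨fun h => absurd h hcp, fun h => absurd h hcq⟩)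
  have htri := hTA d hd p hp q hq hpq t ht
  by_cases h1 : Commute t p <;> by_cases h2 : Commute t q
  · exact absurd ⟨h1, h2⟩ hall
  · exact Or.inl ⟨h1, h2, fun h => h2 ((htri.1 h).1 h1)⟩
  · exact Or.inr (Or.inl ⟨h1, h2, fun h => h1 ((htri.1 h).2 h2)⟩)
  · exact Or.inr (Or.inr ⟨h1, h2, htri.2 ⟨fun h => absurd h h1, fun h => absurd h h2⟩⟩)

theorem cfg_of_line {d c a p q : G} (hd : d ∈ D) (hc : c ∈ D) (hfar : ¬ Commute d c)
    (ha : a ∈ nb D d) (hac : Commute c a) (hp : p ∈ nb D d) (hq : q ∈ nb D d)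
    (hpq : ¬ Commute p q) (hcp : ¬ Commute c p) (hcq : ¬ Commute c q)
    (hcr : ¬ Commute c (cj p q)) : ∃ p' q', BadCfg D d c a p' q' := by
  rcases exactlyOne H hTA hd hc hfar hp hq hpq hcp hcq hcr ha hac with
    ⟨h1, h2, -⟩ | ⟨h1, h2, -⟩ | ⟨h1, -, h3⟩
  · exact ⟨p, q, hd, hc, hfar, ha, hac, hp, hq, hpq, hcp, hcq, hcr, h1, h2⟩
  · refine ⟨q, p, hd, hc, hfar, ha, hac, hq, hp, fun h => hpq h.symm, hcq, hcp, ?_, h2, h1⟩
    rw [← H.braid hp.1 hq.1 hpq]
    exact hcr
  · obtain ⟨hnq, hnp⟩ := H.not_commute_cj hp.1 hq.1 hpq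
    have hr : cj p q ∈ nb D d := H.cj_mem_nb hp.2.2.symm hq
    refine ⟨cj p q, p, hd, hc, hfar, ha, hac, hr, hp, fun h => hnp h.symm, hcr, hcp, ?_, h3, h1⟩
    rw [H.braid hr.1 hp.1 (fun h => hnp h.symm), cj_third_right H hp.1]
    exact hcq

/-- No two non-commuting members at `d` commute with `a` and the line. -/
theorem noPair {d c a p q : G} (C : BadCfg D d c a p q) {b e : G} (hb : b ∈ nb D d)
    (he : e ∈ nb D d) (hbe : ¬ Commute b e) (hba : Commute b a) (hea : Commute e a)
    (hbp : Commute b p) (hep : Commute e p) (hbq : Commute b q) (heq : Commute e q) : False := by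
  have hna : ∀ {w : G}, Commute w q → w ≠ a := fun {w} h e' => C.haq (e' ▸ h)
  have mb : b ∈ nb D a := ⟨hb.1, hna hbq, hba.symm⟩
  have me : e ∈ nb D a := ⟨he.1, hna heq, hea.symm⟩
  have mc : c ∈ nb D a := ⟨C.hc, fun e' => C.far (e' ▸ C.ha.2.2), C.hac.symm⟩
  have key : ∀ t, t ∈ nb D d → Commute t p → Commute t q → ¬ Commute c t := fun t ht h1 h2 h => by
    rcases exactlyOne H hTA C.hd C.hc C.far C.hp C.hq C.hpq C.hcp C.hcq C.hcr ht h with
      ⟨-, h', -⟩ | ⟨h', -, -⟩ | ⟨h', -, -⟩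
    · exact h' h2
    · exact h' h1
    · exact h' h1
  refine key (cj b e) (H.cj_mem_nb hb.2.2.symm he) (commute_third H hbp.symm hep.symm).symm
    (commute_third H hbq.symm heq.symm).symm ?_
  exact (hTA a C.ha.1 b mb e me hbe c mc).2
    ⟨fun h => absurd h (key b hb hbp hbq), fun h => absurd h (key e he hep heq)⟩

/-- Without bad lines the commuting graph has diameter two, and the triangle property holds. -/
theorem triangle_of_noBad (hC : Central D) (hconn : Conn D)
    (hbad : ¬ ∃ d c a p q, BadCfg D d c a p q) : Triangle D := by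
  classical
  have hnb : ∀ {d c a p q : G}, d ∈ D → c ∈ D → ¬ Commute d c → a ∈ nb D d → Commute c a →
      p ∈ nb D d → q ∈ nb D d → ¬ Commute p q → ¬ Commute c p → ¬ Commute c q →
      Commute c (cj p q) := fun {d c a p q} hd hc hf ha hac hp hq hpq hcp hcq => by
    by_contra hcr
    obtain ⟨p', q', h⟩ := cfg_of_line H hTA hd hc hf ha hac hp hq hpq hcp hcq hcr
    exact hbad ⟨d, c, a, p', q', h⟩
  -- two members that do not commute have a common neighbour
  have hdiam : ∀ x ∈ D, ∀ y ∈ D, ¬ Commute x y → ∃ t, t ∈ nb D x ∧ Commute y t := by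
    intro x hx y hy
    suffices key : ∀ z : ↥D, (Cfsg.commutingGraph D).Reachable ⟨x, hx⟩ z →
        ¬ Commute x z → ∃ t, t ∈ nb D x ∧ Commute (z : G) t from
      key ⟨y, hy⟩ (hconn.preconnected _ _)
    intro z hz
    rw [SimpleGraph.reachable_iff_reflTransGen] at hz
    induction hz with
    | refl => exact fun h => absurd (Commute.refl x) h
    | @tail b w _ hadj ih =>
      intro hxw
      have hbw : Commute (b : G) w := by
        simp only [Cfsg.commutingGraph, SimpleGraph.fromRel_adj] at hadj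
        exact hadj.2.elim id Commute.symm
      by_cases hbw' : (b : G) = w
      · exact hbw' ▸ ih (by rw [hbw']; exact hxw)
      by_cases hxb : Commute x b
      · exact ⟨b, ⟨b.2, fun e => hxw (e ▸ hbw), hxb⟩, hbw.symm⟩
      obtain ⟨a, ha, hba⟩ := ih hxb
      have hab : a ∈ nb D b := ⟨ha.1, fun e => hxb (e ▸ ha.2.2), hba⟩
      have hw : (w : G) ∈ nb D b := ⟨w.2, fun e => hbw' e.symm, hbw⟩
      -- a line at `b` inside the neighbours of `w`
      have hR := res_cls H hC b.2
      obtain ⟨s, hs⟩ := hR.nb_nonempty (rmk_mem hw)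
      obtain ⟨s', hs', hss⟩ := hR.exists_noncommute_nb (rmk_mem hw) hs
      obtain ⟨p, hp, rfl⟩ := mem_res.1 hs.1
      obtain ⟨q, hq, rfl⟩ := mem_res.1 hs'.1
      have hwp : Commute (w : G) p := (commute_rmk H hw hp).1 hs.2.2
      have hwq : Commute (w : G) q := (commute_rmk H hw hq).1 hs'.2.2
      have hpq : ¬ Commute p q := fun h => hss ((commute_rmk H hp hq).2 h)
      obtain ⟨t, htb, hxt, hwt⟩ : ∃ t, t ∈ nb D b ∧ Commute x t ∧ Commute (w : G) t := by
        by_cases h1 : Commute x p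
        · exact ⟨p, hp, h1, hwp⟩
        by_cases h2 : Commute x q
        · exact ⟨q, hq, h2, hwq⟩
        exact ⟨cj p q, H.cj_mem_nb hp.2.2.symm hq,
          hnb b.2 hx (fun h => hxb h.symm) hab ha.2.2 hp hq hpq h1 h2, commute_third H hwp hwq⟩
      exact ⟨t, ⟨htb.1, fun e => hxw (e ▸ hwt.symm), hxt⟩, hwt⟩
  intro x hx y hy hxy z hz
  by_cases h1 : Commute z x <;> by_cases h2 : Commute z y
  · exact iff_of_true (commute_third H h1 h2) ⟨fun _ => h2, fun _ => h1⟩
  · refine iff_of_false (fun h => h2 ?_) fun h => h2 (h.1 h1)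
    rw [← cj_third_right H hx y]
    exact commute_third H h1 h
  · refine iff_of_false (fun h => h1 ?_) fun h => h1 (h.2 h2)
    rw [← cj_third_left H hx hy hxy]
    exact commute_third H h2 h
  refine iff_of_true ?_ ⟨fun h => absurd h h1, fun h => absurd h h2⟩
  obtain ⟨d, hd, hyd⟩ := hdiam x hx y hy hxy
  have mx : x ∈ nb D d := ⟨hx, hd.2.1.symm, hd.2.2.symm⟩
  have my : y ∈ nb D d := ⟨hy, fun e => hxy (e ▸ hd.2.2), hyd.symm⟩
  by_cases hzd : Commute d z
  · by_cases hze : z = d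
    · exact absurd (hze ▸ hd.2.2.symm) h1
    exact (hTA d hd.1 x mx y my hxy z ⟨hz, hze, hzd⟩).2 ⟨fun h => absurd h h1, fun h => absurd h h2⟩
  · obtain ⟨a, ha, hza⟩ := hdiam d hd.1 z hz hzd
    exact hnb hd.1 hz hzd ha hza mx my hxy h1 h2

end Bad

end Cfsg.Agent.H7Fischer
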