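import Cfsg.Agent.H7Fischer.Iso
import Cfsg.Agent.Components.TTPrimitive
import Cfsg.Agent.Components.TTZStar
import Cfsg.Agent.H80.TTQuad.Residue
import Cfsg.Agent.H93.TT

/-!
Fischer's theorem: vocabulary.  `Central D` says that the subgroup generated by the members
commuting with a member has central largest normal 2- and 3-subgroups; then the residues are
again classes of 3-transpositions without solvable normal subgroups.
-/

set_option autoImplicit false
set_option linter.unusedSectionVars false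

namespace Cfsg.Agent.H7Fischer

open Cfsg
open H76.LocallyS3 (nb cj cj_cj cj_injective commute_cj_iff)
open H80.TTQuad (Cls cj_one cj_inv_cj cj_cj_inv cj_eq_of_commute commute_of_cj_eq nb_symm
  commute_of_mem_closure_nb)
open H93 (nbSub Residue)

universe u v

variable {G : Type u} [Group G] {D : Set G}

/-- The largest normal 2- and 3-subgroups of the group generated by the members at `d` are central. -/
def CentralAt (D : Set G) (d : G) : Prop :=
  Cfsg.pCore 2 ↥(nbSub D d) ≤ Subgroup.center ↥(nbSub D d) ∧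
    Cfsg.pCore 3 ↥(nbSub D d) ≤ Subgroup.center ↥(nbSub D d)

/-- `CentralAt` at every member. -/
def Central (D : Set G) : Prop := ∀ d ∈ D, CentralAt D d

/-- Triangle property: a member commutes with one or all three members of a line, unless it is
on the line. -/
def Triangle (D : Set G) : Prop :=
  ∀ x ∈ D, ∀ y ∈ D, ¬ Commute x y → ∀ z ∈ D,
    (Commute z (cj x y) ↔ (Commute z x ↔ Commute z y))

/-- No two members at `d` commute with the same members at `d`. -/
def NoTwin (D : Set G) (d : G) : Prop :=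
  ∀ y ∈ nb D d, ∀ y' ∈ nb D d, (∀ z ∈ nb D d, Commute y' z ↔ Commute y z) → y' = y

/-- No two members at `d` have the same other commuting members at `d`. -/
def NoSameNb (D : Set G) (d : G) : Prop :=
  ∀ y ∈ nb D d, ∀ y' ∈ nb D d,
    (∀ z ∈ nb D d, (z ≠ y' ∧ Commute y' z) ↔ (z ≠ y ∧ Commute y z)) → y' = y

/-- The members at `d`, inside the group they generate. -/
def nbClass (D : Set G) (d : G) : Set ↥(nbSub D d) := {x | (x : G) ∈ nb D d}

/-- The images of the members at `d` in the residue group. -/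
def res (D : Set G) (d : G) : Set (Residue D d) :=
  (QuotientGroup.mk : ↥(nbSub D d) → Residue D d) '' nbClass D d

/-- The transpositions. -/
def swaps (n : ℕ) : Set (Equiv.Perm (Fin n)) := {σ | σ.IsSwap}

/-- The orthogonal transvections over the field with two elements. -/
def orthTv {ι : Type} [Fintype ι] [DecidableEq ι] (Q : (ι → ZMod 2) → ZMod 2) :
    Set (Cfsg.isometryGroup (ZMod 2) Q) :=
  {g | (((g : GL ι (ZMod 2)) : Matrix ι ι (ZMod 2)) - 1).rank = 1}

/-- The symplectic transvections over the field with two elements. -/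
def symTv (m : ℕ) : Set (Matrix.symplecticGroup (Fin m) (ZMod 2)) :=
  {g | ((g : Matrix (Fin m ⊕ Fin m) (Fin m ⊕ Fin m) (ZMod 2)) - 1).rank = 1}

/-- The unitary transvections, modulo scalars. -/
def psuTv (n : ℕ) (F : Type) [Field F] [Fintype F] : Set (Cfsg.PSU n F 2) :=
  (QuotientGroup.mk : ↥(Cfsg.SU n F 2) → Cfsg.PSU n F 2) ''
    {g : ↥(Cfsg.SU n F 2) |
      (((g : Matrix.SpecialLinearGroup (Fin n) F) : Matrix (Fin n) (Fin n) F) - 1).rank = 1}

/-- The reflections of one norm over the field with three elements, modulo the centre. -/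
def refl3 {n : ℕ} (Q : QuadraticForm (ZMod 3) (Fin n → ZMod 3)) (c : ZMod 3) :
    Set (↥(Cfsg.reflectionSubgroup (⇑Q) c) ⧸ Subgroup.center ↥(Cfsg.reflectionSubgroup (⇑Q) c)) :=
  (QuotientGroup.mk : ↥(Cfsg.reflectionSubgroup (⇑Q) c) → _) ''
    {g : ↥(Cfsg.reflectionSubgroup (⇑Q) c) |
      (g : ↥(Cfsg.isometryGroup (ZMod 3) (⇑Q))) ∈ Cfsg.reflectionsOfNorm (⇑Q) c}

/-- A symmetric group of degree at least five with its transpositions. -/
def IsSym (D : Set G) : Prop := ∃ n : ℕ, 5 ≤ n ∧ IsoTo D (swaps n)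

/-- A symplectic group with its transvections. -/
def IsSymp (D : Set G) : Prop := ∃ m : ℕ, IsoTo D (symTv m)

/-- A projective special unitary group of degree `n` with its transvections. -/
def IsUnit (D : Set G) (n : ℕ) : Prop :=
  ∃ (F : Type) (_ : Field F) (_ : Fintype F), Fintype.card F = 4 ∧ IsoTo D (psuTv n F)

/-- An orthogonal group over the field with two elements, of dimension at least six. -/
def IsOrthTwo (D : Set G) : Prop :=
  (∃ m : ℕ, 3 ≤ m ∧ IsoTo D (orthTv (Cfsg.quadFormPlus m (ZMod 2)))) ∨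
    ∃ m : ℕ, 2 ≤ m ∧ IsoTo D (orthTv (Cfsg.quadFormMinus m (ZMod 2) 1 1))

/-- The commuting graph is connected. -/
def Conn (D : Set G) : Prop := (Cfsg.commutingGraph D).Connected

/-- A projective reflection group of degree `n` over the field with three elements, with the
discriminant `μ` and the norm `c` of the reflections. -/
def IsOrthThree (D : Set G) (n : ℕ) (μ c : ZMod 3) : Prop :=
  ∃ Q : QuadraticForm (ZMod 3) (Fin n → ZMod 3), (QuadraticMap.polarBilin Q).Nondegenerate ∧
    Cfsg.polarGramDet (⇑Q) = μ ∧ c ≠ 0 ∧ IsoTo D (refl3 Q c)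

/-- The members commuting with both `d` and `c`, inside the group they generate. -/
def tSub (D : Set G) (d c : G) : Subgroup G :=
  Subgroup.closure ({y : G | y ∈ D ∧ y ≠ d ∧ Commute d y} ∩ {y : G | y ∈ D ∧ y ≠ c ∧ Commute c y})

/-- Their images modulo the centre. -/
def tres (D : Set G) (d c : G) :
    Set (↥(tSub D d c) ⧸ Subgroup.center ↥(tSub D d c)) :=
  (QuotientGroup.mk : ↥(tSub D d c) → _) ''
    {x : ↥(tSub D d c) | (x : G) ∈ nb D d ∩ nb D c}

/-- Type M(22), with the class of each common neighbourhood. -/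
def IsM22' (D : Set G) : Prop :=
  Cfsg.IsOfTypeM22 G D ∧ Conn D ∧ ∀ d ∈ D, ∀ c ∈ D, ¬ Commute d c →
    ∃ c₃ : ZMod 3, IsOrthThree (tres D d c) 6 1 c₃

/-- Type M(23), with the class of each common neighbourhood. -/
def IsM23' (D : Set G) : Prop :=
  Cfsg.IsOfTypeM23 G D ∧ Conn D ∧ ∀ d ∈ D, ∀ c ∈ D, ¬ Commute d c →
    ∃ c₃ : ZMod 3, IsOrthThree (tres D d c) 7 (-c₃) c₃

/-- Types M(22), M(23), M(24). -/
def IsFischerType (D : Set G) : Prop :=
  Cfsg.IsOfTypeM22 G D ∨ Cfsg.IsOfTypeM23 G D ∨ Cfsg.IsOfTypeM24 G D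

/-! ### the class at a member -/

theorem nb_ne_one (H : Cls D) {d y : G} (hy : y ∈ nb D d) : y ≠ 1 := H44.tt_ne_one H.cl.1 hy.1

theorem closure_nbClass (d : G) : Subgroup.closure (nbClass D d) = ⊤ :=
  Subgroup.closure_closure_coe_preimage

/-- A member at `d`, in the group generated by them. -/
def el {d y : G} (h : y ∈ nb D d) : ↥(nbSub D d) := ⟨y, Subgroup.subset_closure h⟩

theorem el_mem {d y : G} (h : y ∈ nb D d) : el h ∈ nbClass D d := h

theorem commute_el {d y z : G} (hy : y ∈ nb D d) (hz : z ∈ nb D d) :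
    Commute (el hy) (el hz) ↔ Commute y z :=
  ⟨fun h => congrArg Subtype.val h, fun h => Subtype.ext h⟩

variable [Finite G]

theorem nbClass_class (H : Cls D) {d : G} (hd : d ∈ D) :
    Cfsg.IsThreeTranspositionClass (nbClass D d) := by
  obtain ⟨a, ha⟩ := H.nb_nonempty hd
  refine ⟨⟨fun c hc => ?_, fun c hc c' hc' => ?_⟩,
    ⟨el ha, el_mem ha, Set.ext fun g => ⟨fun hg => ?_, fun hg => ?_⟩⟩, closure_nbClass d⟩
  · rw [← Subgroup.orderOf_coe]; exact H.cl.1.1 _ (show (c : G) ∈ nb D d from hc).1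
  · rcases H.cl.1.2 _ (show (c : G) ∈ nb D d from hc).1 _ (show (c' : G) ∈ nb D d from hc').1
      with h | h
    · exact Or.inl (Subtype.ext h)
    · exact Or.inr (Subtype.ext h)
  · obtain ⟨k, hk, hka⟩ := H44.dx_conjugate H.cl H.sol hd ha (show (g : G) ∈ nb D d from hg)
    exact isConj_iff.2 ⟨⟨k, hk⟩, Subtype.ext hka⟩
  · obtain ⟨k, rfl⟩ := isConj_iff.1 hg
    exact H.cj_mem_nb (commute_of_mem_closure_nb k.2) ha

theorem nbClass_two (H : Cls D) {d : G} (hd : d ∈ D) :
    ∃ a ∈ nbClass D d, ∃ b ∈ nbClass D d, a ≠ b := by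
  obtain ⟨a, ha⟩ := H.nb_nonempty hd
  obtain ⟨b, hb, hab⟩ := H.exists_noncommute_nb hd ha
  refine ⟨el ha, el_mem ha, el hb, el_mem hb, fun e => hab ?_⟩
  have e' : a = b := congrArg Subtype.val e
  rw [e']

theorem noTwin_iff (H : Cls D) {d : G} (hd : d ∈ D) :
    Cfsg.pCore 2 ↥(nbSub D d) ≤ Subgroup.center ↥(nbSub D d) ↔ NoTwin D d := by
  have hE := nbClass_class H hd
  constructor
  · intro h y hy y' hy' hyy
    refine congrArg Subtype.val (Components.eq_of_twin hE (nbClass_two H hd) h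
      (el_mem hy) (el_mem hy') fun e he => ?_)
    exact (commute_el hy' he).trans ((hyy e he).trans (commute_el hy he).symm)
  · intro h
    by_contra hc
    obtain ⟨a, ha⟩ := H.nb_nonempty hd
    obtain ⟨v, hv, hne, hmem⟩ := Components.exists_ne_mul_mem hE hc (el_mem ha)
    have htw := Components.twin_of_pCore_two hE.1 (el_mem ha) hv hmem
    refine hne (Subtype.ext (h a ha v hv fun z hz => ?_))
    exact (commute_el hv hz).symm.trans ((htw (el hz) hz).trans (commute_el ha hz))

theorem noSameNb_iff (H : Cls D) {d : G} (hd : d ∈ D) :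
    Cfsg.pCore 3 ↥(nbSub D d) ≤ Subgroup.center ↥(nbSub D d) ↔ NoSameNb D d := by
  have hE := nbClass_class H hd
  constructor
  · intro h y hy y' hy' hyy
    refine congrArg Subtype.val (Components.eq_of_ttNb Components.zStarTheorem hE h
      (el_mem hy) (el_mem hy') (Set.ext fun e => ?_))
    constructor
    · rintro ⟨he, hne, hc⟩
      obtain ⟨h1, h2⟩ := (hyy e he).2 ⟨fun q => hne (Subtype.ext q), congrArg Subtype.val hc⟩
      exact ⟨he, fun q => h1 (congrArg Subtype.val q), Subtype.ext h2⟩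
    · rintro ⟨he, hne, hc⟩
      obtain ⟨h1, h2⟩ := (hyy e he).1 ⟨fun q => hne (Subtype.ext q), congrArg Subtype.val hc⟩
      exact ⟨he, fun q => h1 (congrArg Subtype.val q), Subtype.ext h2⟩
  · intro h
    by_contra hc
    obtain ⟨a, ha⟩ := H.nb_nonempty hd
    obtain ⟨v, hv, hne, hmem⟩ := Components.exists_ne_mul_mem hE hc (el_mem ha)
    have hnb := Components.ttNb_eq_of_pCore_three hE.1 (el_mem ha) hv hmem
    refine hne (Subtype.ext (h a ha v hv fun z hz => ⟨fun hz' => ?_, fun hz' => ?_⟩))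
    · have h1 : el hz ∈ Components.ttNb (nbClass D d) v :=
        ⟨hz, fun q => hz'.1 (congrArg Subtype.val q), Subtype.ext hz'.2⟩
      rw [← hnb] at h1
      exact ⟨fun q => h1.2.1 (Subtype.ext q), congrArg Subtype.val h1.2.2⟩
    · have h1 : el hz ∈ Components.ttNb (nbClass D d) (el ha) :=
        ⟨hz, fun q => hz'.1 (congrArg Subtype.val q), Subtype.ext hz'.2⟩
      rw [hnb] at h1
      exact ⟨fun q => h1.2.1 (Subtype.ext q), congrArg Subtype.val h1.2.2⟩

theorem cj_noTwin (H : Cls D) (g : G) {d : G} (h : NoTwin D d) : NoTwin D (cj g d) := by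
  intro y hy y' hy' hyy
  have hb : ∀ {w : G}, w ∈ nb D (cj g d) → cj g⁻¹ w ∈ nb D d := fun {w} hw => by
    have := H.cj_nb g⁻¹ hw
    rwa [cj_inv_cj] at this
  refine cj_injective g⁻¹ (h _ (hb hy) _ (hb hy') fun z hz => ?_)
  have := hyy _ (H.cj_nb g hz)
  rw [← commute_cj_iff (g := g), cj_cj_inv, ← commute_cj_iff (g := g) (x := cj g⁻¹ y), cj_cj_inv]
  exact this

theorem cj_noSameNb (H : Cls D) (g : G) {d : G} (h : NoSameNb D d) : NoSameNb D (cj g d) := by
  intro y hy y' hy' hyy
  have hb : ∀ {w : G}, w ∈ nb D (cj g d) → cj g⁻¹ w ∈ nb D d := fun {w} hw => by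
    have := H.cj_nb g⁻¹ hw
    rwa [cj_inv_cj] at this
  refine cj_injective g⁻¹ (h _ (hb hy) _ (hb hy') fun z hz => ?_)
  have key : ∀ w : G, (z ≠ cj g⁻¹ w ∧ Commute (cj g⁻¹ w) z) ↔ (cj g z ≠ w ∧ Commute w (cj g z)) := by
    intro w
    constructor
    · rintro ⟨h1, h2⟩
      refine ⟨fun e => h1 (by rw [← e, cj_inv_cj]), ?_⟩
      have := (commute_cj_iff (g := g)).2 h2
      rwa [cj_cj_inv] at this
    · rintro ⟨h1, h2⟩
      refine ⟨fun e => h1 (by rw [e, cj_cj_inv]), ?_⟩
      rw [← cj_cj_inv g w] at h2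
      exact commute_cj_iff.1 h2
  rw [key, key]
  exact hyy _ (H.cj_nb g hz)

/-- One member with central local cores suffices. -/
theorem central_of_at (H : Cls D) {d : G} (hd : d ∈ D) (h : CentralAt D d) : Central D := by
  intro e he
  obtain ⟨g, rfl⟩ := H.exists_cj hd he
  exact ⟨(noTwin_iff H he).2 (cj_noTwin H g ((noTwin_iff H hd).1 h.1)),
    (noSameNb_iff H he).2 (cj_noSameNb H g ((noSameNb_iff H hd).1 h.2))⟩

end Cfsg.Agent.H7Fischer
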