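import Cfsg.Agent.H7Fischer.Residue
import Cfsg.Agent.H29.FischerRankThree
import Cfsg.Agent.H29.FischerCommuting
import Cfsg.Agent.S0215
import Cfsg.Agent.S5361

/-!
Fischer's theorem: the residue of a connected class with central local cores is connected.

If the members at `d` fell into several commuting components, then some common set of a
non-commuting pair would have a member commuting with none of the others, and some other one
would contain a commuting pair; the rank three property moves the first pair to the second, and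
in one common set the two kinds of members cannot occur together.
-/

set_option autoImplicit false
set_option linter.unusedSectionVars false

namespace Cfsg.Agent.H7Fischer

open Cfsg
open H76.LocallyS3 (nb cj cj_cj cj_injective commute_cj_iff)
open H80.TTQuad (Cls cj_one cj_inv_cj cj_cj_inv cj_eq_of_commute commute_of_cj_eq nb_symm)

universe u

variable {G : Type u} [Group G] [Finite G] {D : Set G}

theorem pCore_eq_bot (H : Cls D) {p : ℕ} [Fact p.Prime] : Cfsg.pCore p G = ⊥ := by
  have hn : (Cfsg.pCore p G).Normal := by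
    rw [Cfsg.pCore]
    exact Subgroup.sSup_normal _ fun N hN => hN.1
  have hp : IsPGroup p ↥(Cfsg.pCore p G) := Components.isPGroup_pCore p
  have := hp.isNilpotent
  exact H.sol _ hn inferInstance

theorem exists_commute_pair (H : Cls D) :
    ∃ a ∈ D, ∃ b ∈ D, a ≠ b ∧ Commute a b := by
  obtain ⟨x, hx⟩ := H.nonempty
  obtain ⟨y, hy⟩ := H.nb_nonempty hx
  exact ⟨x, hx, y, hy.1, hy.2.1.symm, hy.2.2⟩

/-- A connected class has a simple commutator subgroup. -/
theorem simple_commutator (H : Cls D) (hconn : Conn D) : IsSimpleGroup (commutator G) := by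
  have h := S5361.result H.cl H.center_eq_bot (exists_commute_pair H)
  have : Fact (Nat.Prime 2) := ⟨Nat.prime_two⟩
  have : Fact (Nat.Prime 3) := ⟨Nat.prime_three⟩
  exact h.1.2 (h.2.2 ⟨pCore_eq_bot H, pCore_eq_bot H, hconn⟩)

theorem commutator_nonabelian (H : Cls D) :
    ∃ x y : commutator G, x * y ≠ y * x := by
  by_contra hcon
  push Not at hcon
  have hs : Group.IsSolvable ↥(commutator G) := by
    let _ : CommGroup ↥(commutator G) :=
      { (inferInstance : Group ↥(commutator G)) with mul_comm := hcon }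
    infer_instance
  have hb := H.sol (commutator G) inferInstance hs
  obtain ⟨x, hx⟩ := H.nonempty
  obtain ⟨f, hf, hxf⟩ := H.exists_noncommute hx
  refine hxf (commutatorElement_eq_one_iff_commute.1 ?_)
  rw [← Subgroup.mem_bot, ← hb]
  exact Subgroup.commutator_mem_commutator trivial trivial

/-- Rank three: the centralizer of a member is transitive on the members not commuting with it. -/
theorem exists_cj_far (H : Cls D) (hconn : Conn D) {d f f' : G} (hd : d ∈ D) (hf : f ∈ D)
    (hf' : f' ∈ D) (h : ¬ Commute d f) (h' : ¬ Commute d f') :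
    ∃ g : G, Commute g d ∧ cj g f = f' := by
  obtain ⟨y, hy⟩ := H.nb_nonempty hd
  obtain ⟨g, hgd, hgf⟩ := H29.sameColour_of_noncommute H.cl (simple_commutator H hconn)
    hd hy.1 hy.2.1 hy.2.2 hf hf' h h'
  exact ⟨g, mul_inv_eq_iff_eq_mul.1 hgd, hgf⟩

/-- Adjacency among the members at `d`. -/
def nbAdj (D : Set G) (d : G) (y z : G) : Prop := y ∈ nb D d ∧ z ∈ nb D d ∧ Commute y z

theorem nbAdj_symm {d y z : G} (h : nbAdj D d y z) : nbAdj D d z y := ⟨h.2.1, h.1, h.2.2.symm⟩

theorem nbAdj_reach_symm {d y z : G} (h : Relation.ReflTransGen (nbAdj D d) y z) :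
    Relation.ReflTransGen (nbAdj D d) z y := by
  induction h with
  | refl => exact .refl
  | tail _ hbc ih => exact .head (nbAdj_symm hbc) ih

theorem nbAdj_cj (H : Cls D) (g : G) {d y z : G} (h : Relation.ReflTransGen (nbAdj D d) y z) :
    Relation.ReflTransGen (nbAdj D (cj g d)) (cj g y) (cj g z) := by
  refine h.lift (cj g) fun a b hab => ?_
  exact ⟨H.cj_nb g hab.1, H.cj_nb g hab.2.1, commute_cj_iff.2 hab.2.2⟩

/-- The members at `d` form one component. -/
theorem nb_reach (H : Cls D) (hC : Central D) (hconn : Conn D) {d : G} (hd : d ∈ D) {y y' : G}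
    (hy : y ∈ nb D d) (hy' : y' ∈ nb D d) : Relation.ReflTransGen (nbAdj D d) y y' := by
  by_contra hnr
  obtain ⟨a, ha⟩ := H.nb_nonempty hd
  have hda : d ∈ nb D a := nb_symm hd ha
  -- a commuting pair at `d`
  obtain ⟨b, hb, hba, hab⟩ : ∃ b ∈ nb D d, b ≠ a ∧ Commute a b := by
    obtain ⟨w, hw, hwa, hwc⟩ := (res_cls H hC hd).nb_nonempty (rmk_mem ha)
    obtain ⟨b, hb, rfl⟩ := mem_res.1 hw
    exact ⟨b, hb, fun e => hwa (by subst e; rfl), (commute_rmk H ha hb).1 hwc⟩
  have hbA : b ∈ nb D a := ⟨hb.1, hba, hab⟩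
  -- a member not joined to `d` inside the members at `a`
  obtain ⟨f, hf, hdf⟩ : ∃ f ∈ nb D a, ¬ Relation.ReflTransGen (nbAdj D a) d f := by
    by_contra hall
    push Not at hall
    obtain ⟨g, hg⟩ := H.exists_cj hd ha.1
    have h1 : cj g y ∈ nb D a := hg ▸ H.cj_nb g hy
    have h2 : cj g y' ∈ nb D a := hg ▸ H.cj_nb g hy'
    have h3 := nbAdj_cj H g⁻¹ ((nbAdj_reach_symm (hall _ h1)).trans (hall _ h2))
    rw [← hg, cj_inv_cj, cj_inv_cj, cj_inv_cj] at h3
    exact hnr h3
  have hfd : f ≠ d := fun e => hdf (e ▸ .refl)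
  have hnc : ¬ Commute d f := fun hc => hdf (.single ⟨hda, hf, hc⟩)
  have hiso : ∀ t ∈ D, Commute d t → Commute f t → Commute a t → t = a := by
    intro t ht hdt hft hat
    by_contra hta
    have hta' : t ∈ nb D a := ⟨ht, hta, hat⟩
    exact hdf ((Relation.ReflTransGen.single ⟨hda, hta', hdt⟩).trans
      (.single ⟨hta', hf, hft.symm⟩))
  -- a member at the pair `a`, `b` not commuting with `d`
  obtain ⟨f₁, hf₁, hf₁a, hf₁b, hf₁d⟩ :
      ∃ f₁ ∈ D, Commute a f₁ ∧ Commute b f₁ ∧ ¬ Commute d f₁ := by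
    by_contra hall
    push Not at hall
    obtain ⟨g, hga, hgb⟩ := H.exists_cj_nb ha.1 hda hbA
    set Sd := {z | z ∈ nb D a ∧ Commute d z} with hSd
    set Sb := {z | z ∈ nb D a ∧ Commute b z} with hSb
    have hle : Sb ⊆ Sd := fun z hz => ⟨hz.1, hall z hz.1.1 hz.1.2.2 hz.2⟩
    have himg : cj g '' Sd ⊆ Sb := by
      rintro _ ⟨z, hz, rfl⟩
      exact ⟨H.cj_mem_nb hga hz.1, hgb ▸ commute_cj_iff.2 hz.2⟩
    have hcard : Sd.ncard ≤ Sb.ncard := by
      rw [← Set.ncard_image_of_injective Sd (cj_injective g)]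
      exact Set.ncard_le_ncard himg (Set.toFinite _)
    have heq : Sb = Sd := Set.eq_of_subset_of_ncard_le hle hcard (Set.toFinite _)
    refine hb.2.1 ((noTwin_iff H ha.1).1 (hC a ha.1).1 d hda b hbA fun z hz => ?_)
    have := Set.ext_iff.1 heq z
    exact ⟨fun h => (this.1 ⟨hz, h⟩).2, fun h => (this.2 ⟨hz, h⟩).2⟩
  -- move `(d, f)` to `(d, f₁)`
  obtain ⟨g, hgd, hgf⟩ := exists_cj_far H hconn hd hf.1 hf₁ hnc hf₁d
  set i := cj g a with hi
  have hdi : Commute d i := by
    have := (commute_cj_iff (g := g)).2 ha.2.2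
    rwa [cj_eq_of_commute hgd] at this
  have hfi : Commute f₁ i := by
    have := (commute_cj_iff (g := g)).2 hf.2.2.symm
    rwa [hgf] at this
  have hiD : i ∈ D := H.mem_cj g ha.1
  have hisoi : ∀ t ∈ D, Commute d t → Commute f₁ t → Commute i t → t = i := by
    intro t ht h1 h2 h3
    obtain ⟨t, rfl⟩ : ∃ t₀, cj g t₀ = t := ⟨_, cj_cj_inv g t⟩
    have ht' : t ∈ D := by simpa [cj_inv_cj] using H.mem_cj g⁻¹ ht
    refine congrArg (cj g) (hiso t ht' ?_ ?_ (commute_cj_iff.1 h3))
    · rw [← cj_eq_of_commute hgd] at h1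
      exact commute_cj_iff.1 h1
    · rw [← hgf] at h2
      exact commute_cj_iff.1 h2
  have hia : ¬ Commute i a := by
    intro h
    have e := hisoi a ha.1 ha.2.2 hf₁a.symm h
    exact hba ((hisoi b hb.1 hb.2.2 hf₁b.symm (e ▸ hab)).trans e.symm)
  have hfix : ∀ {w z : G}, Commute w z → ∀ t, Commute z t ↔ Commute z (cj w t) := by
    intro w z hwz t
    conv_rhs => rw [← cj_eq_of_commute hwz]
    exact commute_cj_iff.symm
  have key : cj i b = cj a i := by
    have hd_i := (hfix hdi.symm b).1 hb.2.2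
    have hf_i := (hfix hfi.symm b).1 hf₁b.symm
    have hb_D := H.mem_cj i hb.1
    have hbi : Commute (cj a i) (cj i b) := by
      rw [← H.braid hiD ha.1 hia]
      exact commute_cj_iff.2 hab
    -- pull back by `a`
    have h0 : cj a (cj i b) = i := by
      refine hisoi _ (H.mem_cj a hb_D) ((hfix ha.2.2.symm _).1 hd_i) ((hfix hf₁a _).1 hf_i) ?_
      have := (commute_cj_iff (g := a)).2 hbi
      rwa [H.cj_invol ha.1] at this
    rw [← H.cj_invol ha.1 (cj i b), h0]
  rw [← H.braid hiD ha.1 hia] at key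
  exact hba (cj_injective i key)

/-- The residue is connected. -/
theorem res_conn (H : Cls D) (hC : Central D) (hconn : Conn D) {d : G} (hd : d ∈ D) :
    Conn (res D d) := by
  obtain ⟨a, ha⟩ := H.nb_nonempty hd
  have : Nonempty ↥(res D d) := ⟨⟨rmk ha, rmk_mem ha⟩⟩
  refine SimpleGraph.Connected.mk fun x y => ?_
  obtain ⟨x, rfl⟩ := (resEquiv H hC hd).surjective x
  obtain ⟨y, rfl⟩ := (resEquiv H hC hd).surjective y
  have key : ∀ {u v : G}, Relation.ReflTransGen (nbAdj D d) u v → ∀ (hu : u ∈ nb D d)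
      (hv : v ∈ nb D d), (Cfsg.commutingGraph (res D d)).Reachable
        (resEquiv H hC hd ⟨u, hu⟩) (resEquiv H hC hd ⟨v, hv⟩) := by
    intro u v h
    induction h with
    | refl => intro hu hv; exact SimpleGraph.Reachable.refl _
    | @tail w v _ hwv ih =>
      intro hu hv
      refine (ih hu hwv.1).trans ?_
      rcases eq_or_ne w v with rfl | hne
      · exact SimpleGraph.Reachable.refl _
      refine SimpleGraph.Adj.reachable ?_
      refine (SimpleGraph.fromRel_adj _ _ _).2 ⟨fun e => hne ?_, Or.inl ?_⟩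
      · exact congrArg Subtype.val ((resEquiv H hC hd).injective e)
      · exact (commute_rmk H hwv.1 hwv.2.1).2 hwv.2.2
  exact key (nb_reach H hC hconn hd x.2 y.2) x.2 y.2

end Cfsg.Agent.H7Fischer
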