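import Cfsg.Agent.H7Thick.Graph
import Cfsg.Prelude.Def_FischerSpaces

/-!
Fischer's theorem: isomorphisms of pairs (group, class), the model classes, and the criterion
"a bijection of the classes respecting conjugation extends to an isomorphism".
-/

set_option autoImplicit false
set_option linter.unusedSectionVars false

namespace Cfsg.Agent.H7Fischer

open Cfsg
open H76.LocallyS3 (nb cj cj_cj cj_injective commute_cj_iff)
open H80.TTQuad (Cls cj_one cj_inv_cj cj_cj_inv cj_eq_of_commute commute_of_cj_eq)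

universe u v w

variable {G : Type u} [Group G] {G' : Type v} [Group G'] {G'' : Type w} [Group G'']
  {D : Set G} {D' : Set G'} {D'' : Set G''}

/-- An isomorphism of groups carrying `D` onto `D'`. -/
def IsoTo (D : Set G) (D' : Set G') : Prop := ∃ e : G ≃* G', e '' D = D'

theorem IsoTo.refl (D : Set G) : IsoTo D D := ⟨MulEquiv.refl G, Set.image_id D⟩

theorem IsoTo.symm (h : IsoTo D D') : IsoTo D' D := by
  obtain ⟨e, rfl⟩ := h
  exact ⟨e.symm, by rw [Set.image_image]; simp⟩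

theorem IsoTo.trans (h : IsoTo D D') (h' : IsoTo D' D'') : IsoTo D D'' := by
  obtain ⟨e, rfl⟩ := h
  obtain ⟨e', rfl⟩ := h'
  exact ⟨e.trans e', by rw [Set.image_image]; rfl⟩

theorem map_cj (e : G ≃* G') (a b : G) : e (cj a b) = cj (e a) (e b) := by
  simp [cj]

theorem commute_map_iff' (e : G ≃* G') {a b : G} : Commute (e a) (e b) ↔ Commute a b :=
  ⟨fun h => e.injective (by rw [map_mul, map_mul]; exact h), fun h => h.map e⟩

/-- A bijection of the classes respecting conjugation extends to an isomorphism. -/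
theorem isoTo_of_equivariant (hgen : Subgroup.closure D = ⊤) (hgen' : Subgroup.closure D' = ⊤)
    (hfix : ∀ g : G, (∀ d ∈ D, cj g d = d) → g = 1)
    (hfix' : ∀ g : G', (∀ d ∈ D', cj g d = d) → g = 1)
    (hsq : ∀ a ∈ D, a * a = 1) (hsq' : ∀ a ∈ D', a * a = 1)
    (hcl : ∀ a ∈ D, ∀ b ∈ D, cj a b ∈ D) (φ : ↥D ≃ ↥D')
    (heq : ∀ a b : ↥D, (φ ⟨cj (a : G) b, hcl a a.2 b b.2⟩ : G') = cj (φ a : G') (φ b)) :
    IsoTo D D' := by
  let P : G × G' → Prop := fun g => ∀ z : ↥D, ∃ hz : cj g.1 (z : G) ∈ D,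
    (φ ⟨cj g.1 z, hz⟩ : G') = cj g.2 (φ z)
  let M : Submonoid (G × G') :=
    { carrier := {g | P g}
      one_mem' := fun z => ⟨by rw [Prod.fst_one, cj_one]; exact z.2, by
        show _ = cj (1 : G') _
        rw [cj_one (φ z : G')]
        exact congrArg Subtype.val (congrArg φ (Subtype.ext (cj_one _)))⟩
      mul_mem' := fun {g k} hg hk z => by
        obtain ⟨h1, e1⟩ := hk z
        obtain ⟨h2, e2⟩ := hg ⟨_, h1⟩
        refine ⟨by rw [Prod.fst_mul, ← cj_cj]; exact h2, ?_⟩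
        show _ = cj (g.2 * k.2) _
        rw [← cj_cj g.2, ← e1, ← e2]
        exact congrArg Subtype.val (congrArg φ (Subtype.ext (cj_cj _ _ _).symm)) }
  let S : Subgroup (G × G') :=
    { toSubmonoid :=
        { carrier := {g | P g ∧ P g⁻¹}
          one_mem' := ⟨M.one_mem, by rw [inv_one]; exact M.one_mem⟩
          mul_mem' := fun {g k} hg hk =>
            ⟨M.mul_mem hg.1 hk.1, by rw [mul_inv_rev]; exact M.mul_mem hk.2 hg.2⟩ }
      inv_mem' := fun {g} hg => ⟨hg.2, by rw [inv_inv]; exact hg.1⟩ }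
  let T : Subgroup (G × G') := Subgroup.closure {p | ∃ a : ↥D, p = ((a : G), (φ a : G'))}
  have hmem : ∀ a : ↥D, ((a : G), (φ a : G')) ∈ T := fun a => Subgroup.subset_closure ⟨a, rfl⟩
  have hTS : T ≤ S := by
    rw [Subgroup.closure_le]
    rintro _ ⟨a, rfl⟩
    have hP : P ((a : G), (φ a : G')) := fun z => ⟨hcl a a.2 z z.2, heq a z⟩
    refine ⟨hP, ?_⟩
    have hi : ((a : G), (φ a : G'))⁻¹ = ((a : G), (φ a : G')) := Prod.ext
      (inv_eq_of_mul_eq_one_left (hsq _ a.2)) (inv_eq_of_mul_eq_one_left (hsq' _ (φ a).2))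
    rw [hi]
    exact hP
  have f1 : Function.Surjective ((MonoidHom.fst G G').comp T.subtype) := by
    rw [← MonoidHom.range_eq_top, eq_top_iff, ← hgen, Subgroup.closure_le]
    exact fun a ha => ⟨⟨_, hmem ⟨a, ha⟩⟩, rfl⟩
  have f2 : Function.Surjective ((MonoidHom.snd G G').comp T.subtype) := by
    rw [← MonoidHom.range_eq_top, eq_top_iff, ← hgen', Subgroup.closure_le]
    exact fun b hb => ⟨⟨_, hmem (φ.symm ⟨b, hb⟩)⟩,
      congrArg Subtype.val (φ.apply_symm_apply ⟨b, hb⟩)⟩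
  have i1 : Function.Injective ((MonoidHom.fst G G').comp T.subtype) := by
    refine (injective_iff_map_eq_one _).2 fun g hg => ?_
    have hg' : g.1.1 = 1 := hg
    have h2 : g.1.2 = 1 := hfix' _ fun d hd => by
      obtain ⟨z, hz⟩ := φ.surjective ⟨d, hd⟩
      obtain ⟨_, he⟩ := (hTS g.2).1 z
      rw [show d = (φ z : G') from (congrArg Subtype.val hz).symm, ← he]
      exact congrArg Subtype.val (congrArg φ (Subtype.ext
        ((congrArg (fun x => cj x (z : G)) hg').trans (cj_one _))))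
    exact Subtype.ext (Prod.ext hg' h2)
  have i2 : Function.Injective ((MonoidHom.snd G G').comp T.subtype) := by
    refine (injective_iff_map_eq_one _).2 fun g hg => ?_
    have hg' : g.1.2 = 1 := hg
    have h1 : g.1.1 = 1 := hfix _ fun d hd => by
      obtain ⟨hz, he⟩ := (hTS g.2).1 ⟨d, hd⟩
      rw [hg', cj_one] at he
      exact congrArg Subtype.val (φ.injective (Subtype.ext he))
    exact Subtype.ext (Prod.ext h1 hg')
  let e1 := MulEquiv.ofBijective _ ⟨i1, f1⟩
  let e2 := MulEquiv.ofBijective _ ⟨i2, f2⟩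
  have he : ∀ a : ↥D, (e1.symm.trans e2) a = (φ a : G') := by
    intro a
    have h : e1.symm (a : G) = (⟨_, hmem a⟩ : T) := e1.symm_apply_eq.2 rfl
    rw [MulEquiv.trans_apply, h]
    rfl
  refine ⟨e1.symm.trans e2, Set.Subset.antisymm ?_ fun b hb => ?_⟩
  · rintro _ ⟨a, ha, rfl⟩
    rw [he ⟨a, ha⟩]
    exact (φ ⟨a, ha⟩).2
  · exact ⟨(φ.symm ⟨b, hb⟩ : G), (φ.symm ⟨b, hb⟩).2, by rw [he]; simp⟩

end Cfsg.Agent.H7Fischer
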