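import Cfsg.Agent.H7Fischer.RPair
import Cfsg.Agent.H7Fischer.BadLine
import Cfsg.Agent.H7Fischer.Disconnected

/-!
Fischer's theorem: if the residue of a connected class with central local cores has the triangle
property, so has the class, unless the residue is the orthogonal class of minus type in dimension six.
-/

set_option autoImplicit false
set_option linter.unusedSectionVars false

namespace Cfsg.Agent.H7Fischer

open Cfsg
open H76.LocallyS3 (nb cj cj_cj cj_injective commute_cj_iff)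
open H80.TTQuad (Cls cj_one cj_inv_cj cj_cj_inv cj_eq_of_commute commute_of_cj_eq nb_symm
  commute_of_mem_closure_nb)
open H93 (nbSub Residue)

universe u v

/-- Common neighbours of a non-commuting pair pairwise commute. -/
def CommonAbelian {G : Type v} [Group G] (D : Set G) : Prop :=
  ∀ x ∈ D, ∀ y ∈ D, ¬ Commute x y → ∀ s ∈ D, ∀ t ∈ D,
    Commute x s → Commute y s → Commute x t → Commute y t → Commute s t

section Class

variable {G : Type u} [Group G] [Finite G] {D : Set G}

/-- A vector separating two independent ones. -/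
theorem exists_dual_two {a b : space D} (ha : a ≠ 0) (hab : a ≠ b) :
    ∃ y, form D a y = 1 ∧ form D b y = 0 := by
  have nondeg : ∀ v : space D, v ≠ 0 → ∃ u, form D v u = 1 := fun v hv => by
    by_contra h
    push Not at h
    exact hv (eq_zero_of_form' fun u => (z2_cases _).resolve_right (h u))
  obtain ⟨y, hy⟩ := nondeg a ha
  rcases z2_cases (form D b y) with e | e
  · exact ⟨y, hy, e⟩
  obtain ⟨u, hu⟩ := nondeg (a + b) fun h => hab (space_eq_of_add_eq_zero h)
  rw [LinearMap.map_add₂] at hu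
  rcases z2_cases (form D a u) with e' | e'
  · rw [e', zero_add] at hu
    exact ⟨y + u, by rw [map_add, hy, e', add_zero], by rw [map_add, e, hu, z2_add_self]⟩
  · rw [e'] at hu
    exact ⟨u, e', by revert hu; generalize form D b u = c; revert c; decide⟩

/-- The common neighbours of a non-commuting pair commute only in degree five. -/
theorem swaps_five_of_commonAbelian (H : Cls D) (hT : Triangle D) (hCA : CommonAbelian D) :
    IsoTo D (swaps 5) := by
  classical
  have key : ∀ x y b e : ↥D, form D (vec x) (vec y) = 1 → form D (vec b) (vec e) = 1 →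
      form D (vec x) (vec b) = 0 → form D (vec y) (vec b) = 0 →
      form D (vec x) (vec e) = 0 → form D (vec y) (vec e) = 0 → False :=
    fun x y b e h1 h2 h3 h4 h5 h6 => form_vec_one.1 h2 (hCA x x.2 y y.2 (form_vec_one.1 h1) b b.2
      e e.2 (form_vec_zero.1 h3) (form_vec_zero.1 h4) (form_vec_zero.1 h5) (form_vec_zero.1 h6))
  rcases triangle_classify H hT with ⟨hA, -⟩ | ⟨hN, ⟨hg, -⟩ | ⟨-, n, hn, hI⟩⟩
  · exfalso
    obtain ⟨x₀, hx₀⟩ := H.nonempty
    obtain ⟨b₀, hb₀⟩ := H.nb_nonempty hx₀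
    let x : ↥D := ⟨x₀, hx₀⟩
    let b : ↥D := ⟨b₀, hb₀.1⟩
    have hne : vec x ≠ vec b := fun h => hb₀.2.1 (congrArg Subtype.val (vec_injective H h)).symm
    have exb : form D (vec x) (vec b) = 0 := form_vec_zero.2 hb₀.2.2
    obtain ⟨y', h1, h2⟩ := exists_dual_two (vec_ne_zero H x) hne
    obtain ⟨u', h3, h4⟩ := exists_dual_two (vec_ne_zero H b) hne.symm
    obtain ⟨w, hw⟩ : ∃ w, w = u' + form D y' u' • vec x := ⟨_, rfl⟩
    have e1 : form D (vec b) w = 1 := by
      rw [hw, map_add, map_smul, h3, form_swap_eq exb, smul_zero, add_zero]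
    have e2 : form D (vec x) w = 0 := by
      rw [hw, map_add, map_smul, h4, form_isAlt, smul_zero, add_zero]
    have e3 : form D y' w = 0 := by
      rw [hw, map_add, map_smul, form_swap_eq h1, smul_eq_mul, mul_one, z2_add_self]
    obtain ⟨y, rfl⟩ := full_of_allSum H hT hA y' fun h => by
      rw [h, map_zero] at h1; exact zero_ne_one h1
    obtain ⟨u, rfl⟩ := full_of_allSum H hT hA w fun h => by
      rw [h, map_zero] at e1; exact zero_ne_one e1
    exact key x y b u h1 e1 exb (form_swap_eq h2) e2 e3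
  · exfalso
    have hq := qf_add H hT hN hg
    obtain ⟨u, v, w, huv, huw, hvw, c1, c2, c3, z, hz⟩ := hg
    have euv : form D (vec u) (vec v) = 0 := form_vec_zero.2 c1
    have euw : form D (vec u) (vec w) = 0 := form_vec_zero.2 c2
    have evw : form D (vec v) (vec w) = 0 := form_vec_zero.2 c3
    have hne : vec u ≠ vec v := fun h => huv (vec_injective H h)
    obtain ⟨y₁, a1, a2⟩ := exists_dual_two (vec_ne_zero H u) hne
    obtain ⟨y₂, a3, a4⟩ := exists_dual_two (vec_ne_zero H v) hne.symm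
    obtain ⟨w', hw'⟩ : ∃ w', w' = vec w + form D (vec w) y₁ • vec u + form D (vec w) y₂ • vec v :=
      ⟨_, rfl⟩
    have hw0 : w' ≠ 0 := by
      intro h
      rw [hw'] at h
      rcases z2_cases (form D (vec w) y₁) with p | p <;>
        rcases z2_cases (form D (vec w) y₂) with q | q <;>
        simp only [p, q, zero_smul, one_smul, add_zero] at h
      · exact vec_ne_zero H w h
      · exact hvw (vec_injective H (space_eq_of_add_eq_zero h)).symm
      · exact huw (vec_injective H (space_eq_of_add_eq_zero h)).symm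
      · refine vec_ne_zero H z ?_
        rw [hz, ← h]
        abel
    obtain ⟨t₀, ht₀⟩ : ∃ t, form D w' t = 1 := by
      by_contra h
      push Not at h
      exact hw0 (eq_zero_of_form' fun t => (z2_cases _).resolve_right (h t))
    obtain ⟨t, ht⟩ : ∃ t, t = t₀ + form D (vec u) t₀ • y₁ + form D (vec v) t₀ • y₂ := ⟨_, rfl⟩
    have b1 : form D (vec u) t = 0 := by
      rw [ht]; simp only [map_add, map_smul, a1, a4, smul_eq_mul, mul_one, mul_zero, add_zero,
        z2_add_self]
    have b2 : form D (vec v) t = 0 := by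
      rw [ht]; simp only [map_add, map_smul, a2, a3, smul_eq_mul, mul_one, mul_zero, add_zero,
        z2_add_self]
    have b3 : form D (vec w) t = 1 := by
      rw [← ht₀, hw', ht]
      simp only [map_add, map_smul, LinearMap.add_apply, LinearMap.smul_apply, smul_eq_mul]
      ring
    -- duals of `u` and `v`
    obtain ⟨Y, hY⟩ : ∃ Y, Y = y₁ + form D (vec w) y₁ • t := ⟨_, rfl⟩
    obtain ⟨E₀, hE₀⟩ : ∃ E₀, E₀ = y₂ + form D (vec w) y₂ • t := ⟨_, rfl⟩
    have c1' : form D (vec u) Y = 1 := by rw [hY, map_add, map_smul, a1, b1, smul_zero, add_zero]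
    have c2' : form D (vec v) Y = 0 := by rw [hY, map_add, map_smul, a2, b2, smul_zero, add_zero]
    have c3' : form D (vec w) Y = 0 := by
      rw [hY, map_add, map_smul, b3, smul_eq_mul, mul_one, z2_add_self]
    have d1 : form D (vec v) E₀ = 1 := by rw [hE₀, map_add, map_smul, a3, b2, smul_zero, add_zero]
    have d2 : form D (vec u) E₀ = 0 := by rw [hE₀, map_add, map_smul, a4, b1, smul_zero, add_zero]
    have d3 : form D (vec w) E₀ = 0 := by
      rw [hE₀, map_add, map_smul, b3, smul_eq_mul, mul_one, z2_add_self]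
    have quv : qf D (vec u + vec v) = 0 := by rw [hq, qf_vec, qf_vec, euv]; decide
    have qvw : qf D (vec v + vec w) = 0 := by rw [hq, qf_vec, qf_vec, evw]; decide
    obtain ⟨y', hy1, hy2, hy3, hy4⟩ : ∃ y', form D (vec u) y' = 1 ∧ form D (vec v) y' = 0 ∧
        form D (vec w) y' = 0 ∧ qf D y' = 1 := by
      rcases z2_cases (qf D Y) with e | e
      · refine ⟨Y + (vec u + vec v), ?_, ?_, ?_, ?_⟩
        · rw [map_add, map_add, c1', euv, form_isAlt, add_zero, add_zero]
        · rw [map_add, map_add, c2', form_isAlt, form_swap_eq euv, add_zero, add_zero]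
        · rw [map_add, map_add, c3', form_swap_eq euw, form_swap_eq evw, add_zero, add_zero]
        · rw [hq, e, quv, map_add, form_swap_eq c1', form_swap_eq c2']; decide
      · exact ⟨Y, c1', c2', c3', e⟩
    obtain ⟨E, hE⟩ : ∃ E, E = E₀ + form D y' E₀ • vec u := ⟨_, rfl⟩
    have e1 : form D (vec v) E = 1 := by
      rw [hE, map_add, map_smul, d1, form_swap_eq euv, smul_zero, add_zero]
    have e2 : form D (vec u) E = 0 := by
      rw [hE, map_add, map_smul, d2, form_isAlt, smul_zero, add_zero]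
    have e3 : form D (vec w) E = 0 := by
      rw [hE, map_add, map_smul, d3, form_swap_eq euw, smul_zero, add_zero]
    have e4 : form D y' E = 0 := by
      rw [hE, map_add, map_smul, form_swap_eq hy1, smul_eq_mul, mul_one, z2_add_self]
    obtain ⟨e', f1, f2, f3, f4⟩ : ∃ e', form D (vec v) e' = 1 ∧ form D (vec u) e' = 0 ∧
        form D y' e' = 0 ∧ qf D e' = 1 := by
      rcases z2_cases (qf D E) with e | e
      · refine ⟨E + (vec v + vec w), ?_, ?_, ?_, ?_⟩
        · rw [map_add, map_add, e1, evw, form_isAlt, add_zero, add_zero]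
        · rw [map_add, map_add, e2, euv, euw, add_zero, add_zero]
        · rw [map_add, map_add, e4, form_swap_eq hy2, form_swap_eq hy3, add_zero, add_zero]
        · rw [hq, e, qvw, map_add, form_swap_eq e1, form_swap_eq e3]; decide
      · exact ⟨E, e1, e2, e4, e⟩
    obtain ⟨y, rfl⟩ := qf_eq_one.1 hy4
    obtain ⟨e, rfl⟩ := qf_eq_one.1 f4
    exact key u y v e hy1 f1 euv (form_swap_eq hy2) f2 f3
  · by_cases h5 : n = 5
    · exact h5 ▸ hI
    exfalso
    obtain ⟨e, he⟩ := hI
    have mem : ∀ {i j : Fin n}, i ≠ j → e.symm (Equiv.swap i j) ∈ D := fun {i j} h => by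
      have : Equiv.swap i j ∈ e '' D := he.symm ▸ (⟨i, j, h, rfl⟩ : Equiv.swap i j ∈ swaps _)
      obtain ⟨d, hd, hde⟩ := this
      rwa [← hde, e.symm_apply_apply]
    obtain ⟨k, rfl⟩ : ∃ k, n = k + 6 := ⟨n - 6, by omega⟩
    let q : Fin 6 → Fin (k + 6) := Fin.castLE (by omega)
    have hq : Function.Injective q := Fin.castLE_injective _
    have ne : ∀ {i j : Fin 6}, i ≠ j → q i ≠ q j := fun h e => h (hq e)
    have com : ∀ {i j l m : Fin 6}, i ≠ l → i ≠ m → j ≠ l → j ≠ m → i ≠ j →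
        Commute (e.symm (Equiv.swap (q i) (q j))) (e.symm (Equiv.swap (q l) (q m))) := by
      intro i j l m h1 h2 h3 h4 hij
      by_cases hlm : l = m
      · subst hlm; rw [Equiv.swap_self, ← Equiv.Perm.one_def, map_one]; exact Commute.one_right _
      refine (commute_map_iff' e.symm).2 (Equiv.Perm.disjoint_iff_disjoint_support.2 ?_).commute
      rw [Equiv.Perm.support_swap (ne hij), Equiv.Perm.support_swap (ne hlm)]
      simp [ne h1, ne h2, ne h3, ne h4, (ne h1).symm, (ne h2).symm, (ne h3).symm, (ne h4).symm]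
    have ncom : ∀ {i j l : Fin 6}, i ≠ j → i ≠ l → j ≠ l →
        ¬ Commute (e.symm (Equiv.swap (q i) (q j))) (e.symm (Equiv.swap (q j) (q l))) := by
      intro i j l h1 h2 h3 hc
      have := congrArg (fun σ : Equiv.Perm (Fin (k + 6)) => σ (q i))
        ((commute_map_iff' e.symm).1 hc).eq
      simp only [Equiv.Perm.mul_apply, Equiv.swap_apply_of_ne_of_ne (ne h1) (ne h2),
        Equiv.swap_apply_left] at this
      exact ne h3 this
    exact ncom (show (3 : Fin 6) ≠ 4 by decide) (show (3 : Fin 6) ≠ 5 by decide) (by decide)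
      (hCA _ (mem (ne (show (0 : Fin 6) ≠ 1 by decide))) _ (mem (ne (show (1 : Fin 6) ≠ 2 by decide)))
        (ncom (by decide) (by decide) (by decide))
        _ (mem (ne (show (3 : Fin 6) ≠ 4 by decide))) _ (mem (ne (show (4 : Fin 6) ≠ 5 by decide)))
        (com (by decide) (by decide) (by decide) (by decide) (by decide))
        (com (by decide) (by decide) (by decide) (by decide) (by decide))
        (com (by decide) (by decide) (by decide) (by decide) (by decide))
        (com (by decide) (by decide) (by decide) (by decide) (by decide)))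

end Class

/-! ### the ten transpositions of degree five -/

/-- The ten unordered pairs. -/
def p5 : Fin 10 → Fin 5 × Fin 5 :=
  ![(0, 1), (0, 2), (0, 3), (0, 4), (1, 2), (1, 3), (1, 4), (2, 3), (2, 4), (3, 4)]

/-- The ten transpositions. -/
def s5 (k : Fin 10) : Equiv.Perm (Fin 5) := Equiv.swap (p5 k).1 (p5 k).2

/-- Equal or disjoint. -/
def c5 (k l : Fin 10) : Prop :=
  k = l ∨ ((p5 k).1 ≠ (p5 l).1 ∧ (p5 k).1 ≠ (p5 l).2 ∧ (p5 k).2 ≠ (p5 l).1 ∧ (p5 k).2 ≠ (p5 l).2)

instance (k l : Fin 10) : Decidable (c5 k l) := by unfold c5; infer_instance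

theorem c5_iff : ∀ k l, c5 k l ↔ s5 k * s5 l = s5 l * s5 k := by decide

theorem s5_surj : ∀ i j : Fin 5, i ≠ j → ∃ k, s5 k = Equiv.swap i j := by decide

theorem s5_ne : ∀ k, (p5 k).1 ≠ (p5 k).2 := by decide

theorem c5_common_unique : ∀ k l, ¬ c5 k l → ∀ m m', c5 k m → c5 l m → c5 k m' → c5 l m' → m = m' := by
  decide

theorem c5_common_exists : ∀ k l, ¬ c5 k l → ∃ m, c5 k m ∧ c5 l m := by decide

theorem s5_far : ∀ x b, c5 x b → x ≠ b → ∀ f f', ¬ c5 x f → ¬ c5 x f' → c5 b f → c5 b f' →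
    f' = f ∨ s5 f' = s5 x * s5 f * s5 x := by decide

theorem s5_swapper : ∀ a b, c5 a b → a ≠ b → ∃ u v, c5 u v ∧ u ≠ v ∧ u ≠ a ∧ u ≠ b ∧ v ≠ a ∧
    v ≠ b ∧ s5 u * (s5 v * s5 a * s5 v) * s5 u = s5 b := by decide

section Main

variable {G : Type u} [Group G] [Finite G] {D : Set G}

theorem triangle_res (H : Cls D) {d : G} (hTA : TriAt D d) : Triangle (res D d) := by
  rintro x' mx y' my hn z' mz
  obtain ⟨x, hx, rfl⟩ := mem_res.1 mx
  obtain ⟨y, hy, rfl⟩ := mem_res.1 my
  obtain ⟨z, hz, rfl⟩ := mem_res.1 mz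
  rw [← rmk_cj H hx hy, commute_rmk H hz, commute_rmk H hz hx, commute_rmk H hz hy]
  exact hTA x hx y hy (fun q => hn ((commute_rmk H hx hy).2 q)) z hz

theorem BadCfg.conj (H : Cls D) (g : G) {d c a p q : G} (C : BadCfg D d c a p q) :
    BadCfg D (cj g d) (cj g c) (cj g a) (cj g p) (cj g q) where
  hd := H.mem_cj g C.hd
  hc := H.mem_cj g C.hc
  far := fun h => C.far (commute_cj_iff.1 h)
  ha := H.cj_nb g C.ha
  hac := commute_cj_iff.2 C.hac
  hp := H.cj_nb g C.hp
  hq := H.cj_nb g C.hq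
  hpq := fun h => C.hpq (commute_cj_iff.1 h)
  hcp := fun h => C.hcp (commute_cj_iff.1 h)
  hcq := fun h => C.hcq (commute_cj_iff.1 h)
  hcr := fun h => C.hcr (by
    rw [show cj (cj g p) (cj g q) = cj g (cj p q) by simp only [cj]; group] at h
    exact commute_cj_iff.1 h)
  hap := commute_cj_iff.2 C.hap
  haq := fun h => C.haq (commute_cj_iff.1 h)

/-- With the exception excluded, the members commuting with the ends of a bad configuration
commute with `a`. -/
theorem commute_a (H : Cls D) (hC : Central D) (hTA : ∀ e ∈ D, TriAt D e) {d c a p q : G}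
    (C : BadCfg D d c a p q)
    (hex : ¬ IsoTo (res D d) (orthTv (Cfsg.quadFormMinus 2 (ZMod 2) 1 1))) {t : G}
    (ht : t ∈ nb D d) (htc : Commute c t) : Commute t a := by
  have HR := res_cls H hC C.hd
  have hT := triangle_res H (hTA d C.hd)
  let pt : ∀ {y : G}, y ∈ nb D d → ↥(res D d) := fun h => ⟨rmk h, rmk_mem h⟩
  have pt_com : ∀ {x y : G} (hx : x ∈ nb D d) (hy : y ∈ nb D d),
      Commute (pt hx : Residue D d) (pt hy) ↔ Commute x y := fun hx hy => commute_rmk H hx hy
  have pt_inj : ∀ {x y : G} {hx : x ∈ nb D d} {hy : y ∈ nb D d},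
      vec (pt hx) = vec (pt hy) → x = y := fun {x y hx hy} h =>
    rmk_inj H hC C.hd hx hy (congrArg Subtype.val (vec_injective HR h))
  have hr : cj p q ∈ nb D d := H.cj_mem_nb C.hp.2.2.symm C.hq
  have hne : pt C.ha ≠ pt C.hp := fun h => C.hcp (by
    rw [← rmk_inj H hC C.hd C.ha C.hp (congrArg Subtype.val h)]; exact C.hac)
  rcases pair_cases HR hT ((pt_com C.ha C.hp).2 C.hap) hne
      (fun h => C.haq ((pt_com C.ha C.hq).1 h)) (fun h => C.hpq ((pt_com C.hp C.hq).1 h)) with
    ⟨⟨b, hb⟩, ⟨e, he⟩, hbe, ⟨h1, h2, h3⟩, h4, h5, h6⟩ | hthin | hexc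
  · exfalso
    obtain ⟨b, hbD, rfl⟩ := mem_res.1 hb
    obtain ⟨e, heD, rfl⟩ := mem_res.1 he
    exact noPair H hTA C hbD heD (fun h => hbe ((commute_rmk H hbD heD).2 h))
      ((pt_com hbD C.ha).1 h1) ((pt_com heD C.ha).1 h4) ((pt_com hbD C.hp).1 h2)
      ((pt_com heD C.hp).1 h5) ((pt_com hbD C.hq).1 h3) ((pt_com heD C.hq).1 h6)
  swap
  · exact absurd hexc hex
  by_contra hta
  set A := pt C.ha
  set P := pt C.hp
  set Q := pt C.hq
  set T := pt ht
  have eTA : form _ (vec T) (vec A) = 1 := form_vec_one.2 fun h => hta ((pt_com ht C.ha).1 h)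
  have eAP : form _ (vec A) (vec P) = 0 := form_vec_zero.2 ((pt_com C.ha C.hp).2 C.hap)
  have eAQ : form _ (vec A) (vec Q) = 1 := form_vec_one.2 fun h => C.haq ((pt_com C.ha C.hq).1 h)
  have ePQ : form _ (vec P) (vec Q) = 1 := form_vec_one.2 fun h => C.hpq ((pt_com C.hp C.hq).1 h)
  have hs : cj a t ∈ nb D d := H.cj_mem_nb C.ha.2.2.symm ht
  have hsc : Commute c (cj a t) := commute_third H C.hac htc
  have eS : vec (pt hs) = vec A + vec T :=
    vec_third HR hT (a := A) (b := T) (form_swap_eq eTA)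
  have eR : vec (pt hr) = vec P + vec Q :=
    vec_third HR hT (a := P) (b := Q) ePQ
  have addswap : ∀ {x y z : space (res D d)}, x + y = z → x = z + y := fun {x y z} h => by
    rw [← h, space_add_cancel]
  rcases exactlyOne H hTA C.hd C.hc C.far C.hp C.hq C.hpq C.hcp C.hcq C.hcr ht htc with
    ⟨h1, h2, -⟩ | ⟨h1, h2, -⟩ | ⟨h1, h2, -⟩
  · have k1 : form _ (vec T) (vec P) = 0 := form_vec_zero.2 ((pt_com ht C.hp).2 h1)
    have k2 : form _ (vec T) (vec Q) = 1 := form_vec_one.2 fun h => h2 ((pt_com ht C.hq).1 h)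
    have s1 : Commute (cj a t) p := (pt_com hs C.hp).1 <| form_vec_zero.1 <| by
      rw [eS, LinearMap.map_add₂, eAP, k1, add_zero]
    have s2 : Commute (cj a t) q := (pt_com hs C.hq).1 <| form_vec_zero.1 <| by
      rw [eS, LinearMap.map_add₂, eAQ, k2, z2_add_self]
    rcases exactlyOne H hTA C.hd C.hc C.far C.hp C.hq C.hpq C.hcp C.hcq C.hcr hs hsc with
      ⟨-, h', -⟩ | ⟨h', -, -⟩ | ⟨h', -, -⟩
    · exact h' s2
    · exact h' s1
    · exact h' s1
  · have k1 : form _ (vec T) (vec P) = 1 := form_vec_one.2 fun h => h1 ((pt_com ht C.hp).1 h)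
    have k2 : form _ (vec T) (vec Q) = 0 := form_vec_zero.2 ((pt_com ht C.hq).2 h2)
    rcases hthin (vec T + vec Q)
        (by rw [LinearMap.map_add₂, eTA, form_swap_eq eAQ, z2_add_self])
        (by rw [LinearMap.map_add₂, k1, form_swap_eq ePQ, z2_add_self])
        (by rw [LinearMap.map_add₂, k2, form_isAlt, add_zero]) with h | h
    · exact C.hcq (pt_inj (space_eq_of_add_eq_zero h) ▸ htc)
    · have : vec (pt hs) = vec (pt hr) := by
        rw [eS, eR, addswap h, ← add_assoc, ← add_assoc, space_add_self, zero_add]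
      exact C.hcr (pt_inj this ▸ hsc)
  · have k1 : form _ (vec T) (vec P) = 1 := form_vec_one.2 fun h => h1 ((pt_com ht C.hp).1 h)
    have k2 : form _ (vec T) (vec Q) = 1 := form_vec_one.2 fun h => h2 ((pt_com ht C.hq).1 h)
    rcases hthin (vec T + (vec P + vec Q))
        (by rw [LinearMap.map_add₂, LinearMap.map_add₂, eTA, form_swap_eq eAP, form_swap_eq eAQ]
            decide)
        (by rw [LinearMap.map_add₂, LinearMap.map_add₂, k1, form_isAlt, form_swap_eq ePQ]
            decide)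
        (by rw [LinearMap.map_add₂, LinearMap.map_add₂, k2, form_isAlt, ePQ]
            decide) with h | h
    · have : vec T = vec (pt hr) := by rw [eR]; exact space_eq_of_add_eq_zero h
      exact C.hcr (pt_inj this ▸ htc)
    · have : vec (pt hs) = vec Q := by
        rw [eS, addswap h, ← add_assoc, ← add_assoc, ← add_assoc, space_add_self, zero_add,
          space_add_self, zero_add]
      exact C.hcq (pt_inj this ▸ hsc)

/-- A residue with the triangle property. -/
theorem residue_triangle (H : Cls D) (hC : Central D) (hconn : Conn D) {d : G} (hd : d ∈ D)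
    (hT : Triangle (res D d)) :
    Triangle D ∨ IsoTo (res D d) (orthTv (Cfsg.quadFormMinus 2 (ZMod 2) 1 1)) := by
  classical
  have hTA : ∀ e ∈ D, TriAt D e := fun e he => triAt_of_res H hd hT he
  by_cases hex : IsoTo (res D d) (orthTv (Cfsg.quadFormMinus 2 (ZMod 2) 1 1))
  · exact Or.inr hex
  by_cases hbad : ¬ ∃ d c a p q, BadCfg D d c a p q
  · exact Or.inl (triangle_of_noBad H hTA hC hconn hbad)
  exfalso
  push Not at hbad
  obtain ⟨d₀, c, a, p, q, C₀⟩ := hbad
  obtain ⟨g₀, hg₀⟩ := H.exists_cj C₀.hd hd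
  have C := C₀.conj H g₀
  rw [hg₀] at C
  generalize cj g₀ c = c, cj g₀ a = a, cj g₀ p = p, cj g₀ q = q at C
  -- the common set of `d` and `c` is commutative
  have hTc : ∀ t ∈ nb D d, Commute c t → ∀ s ∈ nb D d, Commute c s → Commute t s := by
    intro t ht htc s hs hsc
    obtain ⟨p', q', C'⟩ := cfg_of_line H hTA hd C.hc C.far hs hsc C.hp C.hq C.hpq C.hcp C.hcq C.hcr
    exact commute_a H hC hTA C' hex ht htc
  -- so is every common set
  have hCA : CommonAbelian D := by
    intro x hx y hy hxy s hs t ht hxs hys hxt hyt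
    obtain ⟨g, rfl⟩ := H.exists_cj hd hx
    obtain ⟨y, rfl⟩ : ∃ y₀, cj g y₀ = y := ⟨_, cj_cj_inv g y⟩
    have hy' : y ∈ D := by simpa [cj_inv_cj] using H.mem_cj g⁻¹ hy
    obtain ⟨k, hkd, hkc⟩ := exists_cj_far H hconn hd C.hc hy' C.far fun h => hxy (commute_cj_iff.2 h)
    obtain ⟨s, rfl⟩ : ∃ s₀, cj g (cj k s₀) = s :=
      ⟨cj k⁻¹ (cj g⁻¹ s), by rw [cj_cj_inv, cj_cj_inv]⟩
    obtain ⟨t, rfl⟩ : ∃ t₀, cj g (cj k t₀) = t :=
      ⟨cj k⁻¹ (cj g⁻¹ t), by rw [cj_cj_inv, cj_cj_inv]⟩
    have hs' : s ∈ D := by simpa [cj_inv_cj] using H.mem_cj k⁻¹ (H.mem_cj g⁻¹ hs)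
    have ht' : t ∈ D := by simpa [cj_inv_cj] using H.mem_cj k⁻¹ (H.mem_cj g⁻¹ ht)
    have hd' := cj_eq_of_commute hkd
    rw [commute_cj_iff] at hxs hys hxt hyt
    rw [← hd', commute_cj_iff] at hxs hxt
    rw [← hkc, commute_cj_iff] at hys hyt
    refine commute_cj_iff.2 (commute_cj_iff.2 (hTc s ⟨hs', ?_, hxs⟩ hys t ⟨ht', ?_, hxt⟩ hyt))
    · rintro rfl; exact C.far hys.symm
    · rintro rfl; exact C.far hyt.symm
  -- hence so in the residue, which has degree five
  have HR := res_cls H hC hd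
  have hCAR : CommonAbelian (res D d) := by
    intro x' mx y' my hxy s' ms t' mt hxs hys hxt hyt
    obtain ⟨x, hx, rfl⟩ := mem_res.1 mx
    obtain ⟨y, hy, rfl⟩ := mem_res.1 my
    obtain ⟨s, hs, rfl⟩ := mem_res.1 ms
    obtain ⟨t, ht, rfl⟩ := mem_res.1 mt
    rw [commute_rmk H] at hxs hys hxt hyt
    rw [commute_rmk H]
    exact hCA x hx.1 y hy.1 (fun h => hxy ((commute_rmk H hx hy).2 h)) s hs.1 t ht.1 hxs hys hxt hyt
  obtain ⟨E, hE⟩ := swaps_five_of_commonAbelian HR (triangle_res H (hTA d hd)) hCAR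
  -- names for the members at a member
  have idx : ∀ {y : G} (hy : y ∈ nb D d), ∃ k, E (rmk hy) = s5 k := fun {y} hy => by
    obtain ⟨i, j, hij, h⟩ : E (rmk hy) ∈ swaps 5 := hE ▸ ⟨_, rmk_mem hy, rfl⟩
    obtain ⟨k, hk⟩ := s5_surj i j hij
    exact ⟨k, h.trans hk.symm⟩
  have exk : ∀ k, ∃ y, ∃ hy : y ∈ nb D d, E (rmk hy) = s5 k := fun k => by
    obtain ⟨x, hx, hxk⟩ : s5 k ∈ E '' res D d := hE.symm ▸ (⟨_, _, s5_ne k, rfl⟩ : s5 k ∈ swaps 5)
    obtain ⟨y, hy, rfl⟩ := mem_res.1 hx
    exact ⟨y, hy, hxk⟩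
  have com : ∀ {x y : G} (hx : x ∈ nb D d) (hy : y ∈ nb D d) {k l}, E (rmk hx) = s5 k →
      E (rmk hy) = s5 l → (Commute x y ↔ c5 k l) := fun {x y} hx hy {k l} ek el => by
    rw [← commute_rmk H hx hy, ← commute_map_iff' E, ek, el, c5_iff]
    exact Iff.rfl
  have inj : ∀ {x y : G} (hx : x ∈ nb D d) (hy : y ∈ nb D d),
      E (rmk hx) = E (rmk hy) → x = y := fun {x y} hx hy h => rmk_inj H hC hd hx hy (E.injective h)
  -- three facts
  have F1 : ∀ {x y : G}, x ∈ nb D d → y ∈ nb D d → ¬ Commute x y →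
      (∃ z ∈ nb D d, Commute x z ∧ Commute y z) ∧ ∀ z ∈ nb D d, ∀ z' ∈ nb D d, Commute x z →
        Commute y z → Commute x z' → Commute y z' → z = z' := by
    intro x y hx hy hxy
    obtain ⟨k, ek⟩ := idx hx
    obtain ⟨l, el⟩ := idx hy
    have hkl : ¬ c5 k l := fun h => hxy ((com hx hy ek el).2 h)
    refine ⟨?_, fun z hz z' hz' h1 h2 h3 h4 => ?_⟩
    · obtain ⟨m, h1, h2⟩ := c5_common_exists k l hkl
      obtain ⟨z, hz, em⟩ := exk m
      exact ⟨z, hz, (com hx hz ek em).2 h1, (com hy hz el em).2 h2⟩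
    · obtain ⟨m, em⟩ := idx hz
      obtain ⟨m', em'⟩ := idx hz'
      refine inj hz hz' ?_
      rw [em, em', c5_common_unique k l hkl m m' ((com hx hz ek em).1 h1) ((com hy hz el em).1 h2)
        ((com hx hz' ek em').1 h3) ((com hy hz' el em').1 h4)]
  have F2 : ∀ {x b f f' : G}, x ∈ nb D d → b ∈ nb D d → f ∈ nb D d → f' ∈ nb D d → x ≠ b →
      Commute x b → ¬ Commute x f → ¬ Commute x f' → Commute b f → Commute b f' →
      f' = f ∨ f' = cj x f := by
    intro x b f f' hx hb hf hf' hne hxb hxf hxf' hbf hbf'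
    obtain ⟨i, ei⟩ := idx hx
    obtain ⟨j, ej⟩ := idx hb
    obtain ⟨k, ek⟩ := idx hf
    obtain ⟨k', ek'⟩ := idx hf'
    rcases s5_far i j ((com hx hb ei ej).1 hxb) (fun e => hne (inj hx hb (by rw [ei, ej, e])))
        k k' (fun h => hxf ((com hx hf ei ek).2 h)) (fun h => hxf' ((com hx hf' ei ek').2 h))
        ((com hb hf ej ek).1 hbf) ((com hb hf' ej ek').1 hbf') with h | h
    · exact Or.inl (inj hf' hf (by rw [ek, ek', h]))
    · refine Or.inr (inj hf' (H.cj_mem_nb hx.2.2.symm hf) ?_)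
      rw [rmk_cj H hx hf, map_cj, ei, ek, ek', h]
      simp [cj, s5]
  obtain ⟨g, hg⟩ := H.exists_cj C.ha.1 hd
  have tr : ∀ {y : G}, y ∈ nb D a → cj g y ∈ nb D d := fun hy => hg ▸ H.cj_nb g hy
  have hda : d ∈ nb D a := nb_symm hd C.ha
  have hca : c ∈ nb D a := ⟨C.hc, fun e => C.far (e ▸ C.ha.2.2), C.hac.symm⟩
  -- the second member of the common set
  obtain ⟨b, hb, hba, hcb⟩ : ∃ b, b ∈ nb D d ∧ b ∈ nb D a ∧ Commute c b := by
    obtain ⟨z, hz, h1, h2⟩ := (F1 (tr hda) (tr hca) fun h => C.far (commute_cj_iff.1 h)).1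
    obtain ⟨b, rfl⟩ : ∃ b, cj g b = z := ⟨_, cj_cj_inv g z⟩
    have hb : b ∈ nb D a := by
      have := H.cj_nb g⁻¹ hz
      rwa [cj_inv_cj, ← hg, cj_inv_cj] at this
    rw [commute_cj_iff] at h1 h2
    exact ⟨b, ⟨hb.1, fun e => C.far (e ▸ h2).symm, h1⟩, hb, h2⟩
  have honly : ∀ t ∈ nb D d, Commute c t → t = a ∨ t = b := by
    intro t ht htc
    by_cases hta : t = a
    · exact Or.inl hta
    have htA : t ∈ nb D a := ⟨ht.1, hta, hTc a C.ha C.hac t ht htc⟩
    exact Or.inr (cj_injective g ((F1 (tr hda) (tr hca) fun h => C.far (commute_cj_iff.1 h)).2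
      _ (tr htA) _ (tr hba) (commute_cj_iff.2 ht.2.2) (commute_cj_iff.2 htc)
      (commute_cj_iff.2 hb.2.2) (commute_cj_iff.2 hcb)))
  obtain ⟨i, ei⟩ := idx C.ha
  obtain ⟨j, ej⟩ := idx hb
  obtain ⟨ku, kv, huv, hne, hua, hub, hva, hvb, hswap⟩ := s5_swapper i j
    ((com C.ha hb ei ej).1 hba.2.2) fun e => hba.2.1 (inj hb C.ha (by rw [ei, ej, e]))
  obtain ⟨u, hu, eu⟩ := exk ku
  obtain ⟨v, hv, ev⟩ := exk kv
  have huv' : Commute u v := (com hu hv eu ev).2 huv
  have sinj : ∀ k l, s5 k = s5 l → k = l := by decide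
  have kne : ∀ {x y : G} {hx : x ∈ nb D d} {hy : y ∈ nb D d} {k l}, E (rmk hx) = s5 k →
      E (rmk hy) = s5 l → k ≠ l → x ≠ y := fun {x y hx hy k l} ek el h e => by
    subst e
    exact h (sinj k l (ek.symm.trans el))
  have hcu : ¬ Commute c u := fun h => (honly u hu h).elim (kne eu ei hua) (kne eu ej hub)
  have hab : cj u (cj v a) = b := by
    refine inj (H.cj_mem_nb hu.2.2.symm (H.cj_mem_nb hv.2.2.symm C.ha)) hb ?_
    rw [rmk_cj H hu (H.cj_mem_nb hv.2.2.symm C.ha), rmk_cj H hv C.ha, map_cj, map_cj, eu, ev, ei,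
      ej, ← hswap]
    simp [cj, s5]
  have hcjg : ∀ x, cj (u * v) x = cj u (cj v x) := fun x => (cj_cj u v x).symm
  have hvd : cj (u * v) d = d := cj_eq_of_commute (hu.2.2.symm.mul_left hv.2.2.symm)
  have hga : cj (u * v) a = b := by rw [hcjg, hab]
  have hgb : cj (u * v) b = a := by
    rw [← hga, cj_cj, show u * v * (u * v) = 1 by
      rw [← mul_assoc, mul_assoc u v u, huv'.symm.eq, ← mul_assoc, H.sq hu.1, one_mul, H.sq hv.1],
      cj_one]
  have h1 : Commute (cj (u * v) c) a := by rw [← hgb]; exact commute_cj_iff.2 hcb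
  have h2 : Commute (cj (u * v) c) b := by rw [← hga]; exact commute_cj_iff.2 C.hac
  have h3 : ¬ Commute d (cj (u * v) c) := by rw [← hvd]; exact fun h => C.far (commute_cj_iff.1 h)
  have hc' : cj (u * v) c ∈ nb D a :=
    ⟨H.mem_cj _ C.hc, fun e => h3 (e.symm ▸ C.ha.2.2), h1.symm⟩
  have htt := H93.TT.of_class H.cl
  rcases F2 (tr hda) (tr hba) (tr hca) (tr hc') (fun e => hb.2.1 (cj_injective g e).symm)
      (commute_cj_iff.2 hb.2.2) (fun h => C.far (commute_cj_iff.1 h))
      (fun h => h3 (commute_cj_iff.1 h)) (commute_cj_iff.2 hcb.symm) (commute_cj_iff.2 h2.symm)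
    with h | h
  · exact hcu (htt.commute_of_commute_mul C.hc hu.1 hv.1 (kne eu ev hne)
      (commute_of_cj_eq (cj_injective g h)).symm).1
  · rw [show cj (cj g d) (cj g c) = cj g (cj d c) by simp only [cj]; group] at h
    have h' := cj_injective g h
    have : cj (d * u * v) c = c := by
      rw [mul_assoc, ← cj_cj, h', H.cj_invol hd]
    exact hcu (htt.commute_of_commute_mul₃ C.hc hd hu.1 hv.1 hu.2.1.symm hv.2.1.symm
      (kne eu ev hne) hu.2.2 hv.2.2 huv' (commute_of_cj_eq this).symm).2.1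

end Main

end Cfsg.Agent.H7Fischer
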