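import Cfsg.Agent.H7Fischer.Disconnected
import Cfsg.Agent.H7Fischer.ResidueTriangle
import Cfsg.Agent.H80.TTFischer.Psu
import Cfsg.Agent.H80.TTPolar.Symp
import Cfsg.Agent.S1615
import Cfsg.Agent.Cores.PCore

/-!
Connected classes with non-central local cores: triangle property, or unitary.
-/

set_option autoImplicit false
set_option linter.unusedSectionVars false

namespace Cfsg.Agent.H7Fischer

open Cfsg
open H76.LocallyS3 (nb cj cj_cj cj_injective commute_cj_iff)
open H80.TTQuad (Cls cj_one cj_inv_cj cj_cj_inv cj_eq_of_commute commute_of_cj_eq nb_symm)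
open H93 (nbSub Residue)

universe u

variable {G : Type u} [Group G] [Finite G] {D : Set G}

/-- Lines of three points give the triangle property. -/
theorem triangle_of_three (P : H80.TTPolar.Polar D)
    (h3 : ∀ p ∈ D, ∀ q ∈ nb D p, (H80.TTPolar.Ln D p q).ncard = 3) : Triangle D := by
  intro x hx y hy hxy z hz
  obtain ⟨w, hw, hadd, hcj⟩ := P.iota_add h3 hx hy fun e => hxy (e ▸ Commute.refl x)
  obtain rfl := hcj hxy
  have h := congrFun hadd z
  have key : ∀ p, Commute z p ↔ H80.TTPolar.iota D p z = 0 := fun p => by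
    constructor
    · exact fun q => H80.TTPolar.iota_apply_of_commute q.symm
    · intro q
      by_contra hn
      rw [H80.TTPolar.iota_apply_of_not hz fun r => hn r.symm] at q
      exact one_ne_zero q
  rw [key, key, key, ← h]
  show H80.TTPolar.iota D x z + H80.TTPolar.iota D y z = 0 ↔ _
  generalize H80.TTPolar.iota D x z = a, H80.TTPolar.iota D y z = b
  revert a b
  decide

theorem s5_triangle : ∀ k l, ¬ c5 k l → ∃ r, s5 r = s5 k * s5 l * s5 k ∧
    ∀ m, c5 m r ↔ (c5 m k ↔ c5 m l) := by decide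

theorem triangle_swaps_five : Triangle (swaps 5) := by
  rintro x ⟨i, j, hij, rfl⟩ y ⟨i', j', hij', rfl⟩ hn z ⟨a, b, hab, rfl⟩
  obtain ⟨k, hk⟩ := s5_surj i j hij
  obtain ⟨l, hl⟩ := s5_surj i' j' hij'
  obtain ⟨m, hm⟩ := s5_surj a b hab
  rw [← hk, ← hl] at hn ⊢
  rw [← hm]
  obtain ⟨r, hr, hrm⟩ := s5_triangle k l fun h => hn ((c5_iff k l).1 h)
  have e : cj (s5 k) (s5 l) = s5 r := by rw [hr]; simp [cj, s5]
  rw [e]
  have hc : ∀ u v, Commute (s5 u) (s5 v) ↔ c5 u v := fun u v => (c5_iff u v).symm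
  rw [hc, hc, hc]
  exact hrm m

theorem isSwap_of_odd_involution {σ : Equiv.Perm (Fin 5)} (h2 : σ * σ = 1)
    (hs : Equiv.Perm.sign σ ≠ 1) : σ.IsSwap := by
  have h1 : σ ≠ 1 := fun h => hs (by rw [h, map_one])
  have ho : orderOf σ = 2 := orderOf_eq_prime (by rw [pow_two, h2]) h1
  obtain ⟨k, hk⟩ := Equiv.Perm.cycleType_prime_order (σ := σ) (by rw [ho]; exact Nat.prime_two)
  rw [ho] at hk
  have hsum : σ.support.card = 2 * (k + 1) := by
    rw [← Equiv.Perm.sum_cycleType, hk, Multiset.sum_replicate, smul_eq_mul, mul_comm]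
  have hle : σ.support.card ≤ 5 := by
    simpa using Finset.card_le_univ σ.support
  rw [← Equiv.Perm.card_support_eq_two, hsum]
  obtain rfl | rfl : k = 0 ∨ k = 1 := by omega
  · rfl
  · refine absurd ?_ hs
    rw [Equiv.Perm.sign_of_cycleType, hk]
    rfl

/-- A class of 3-transpositions in the symmetric group of degree five. -/
theorem swaps_of_iso (H : Cls D) (e : G ≃* Equiv.Perm (Fin 5)) : IsoTo D (swaps 5) := by
  classical
  obtain ⟨d, hd⟩ := H.nonempty
  have hsign : ∀ x ∈ D, Equiv.Perm.sign (e x) = Equiv.Perm.sign (e d) := fun x hx => by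
    obtain ⟨g, rfl⟩ := H.exists_cj hd hx
    simp only [cj, map_mul, map_inv]
    rw [mul_comm (Equiv.Perm.sign (e g)), mul_inv_cancel_right]
  have hodd : Equiv.Perm.sign (e d) ≠ 1 := by
    intro h1
    have hall : ∀ g : G, Equiv.Perm.sign (e g) = 1 := fun g => by
      have hg : g ∈ Subgroup.closure D := by rw [H.cl.2.2]; trivial
      induction hg using Subgroup.closure_induction with
      | mem x hx => rw [hsign x hx, h1]
      | one => simp
      | mul a b _ _ ha hb => rw [map_mul, map_mul, ha, hb, one_mul]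
      | inv a _ ha => rw [map_inv, map_inv, ha, inv_one]
    have := hall (e.symm (Equiv.swap 0 1))
    rw [e.apply_symm_apply, Equiv.Perm.sign_swap (by decide)] at this
    exact absurd this (by decide)
  have hsw : ∀ x ∈ D, (e x).IsSwap := fun x hx =>
    isSwap_of_odd_involution (by rw [← map_mul, H.sq hx, map_one]) (by rw [hsign x hx]; exact hodd)
  refine ⟨e, Set.ext fun σ => ⟨?_, ?_⟩⟩
  · rintro ⟨x, hx, rfl⟩
    exact hsw x hx
  · rintro ⟨i, j, hij, rfl⟩
    obtain ⟨k, l, hkl, hk⟩ := hsw d hd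
    obtain ⟨g, hg⟩ := isConj_iff.1 (Equiv.Perm.isConj_swap hkl hij)
    refine ⟨cj (e.symm g) d, H.mem_cj _ hd, ?_⟩
    rw [map_cj, e.apply_symm_apply, hk]
    exact hg

/-- The commutator subgroup of a connected class is perfect. -/
theorem commutator_perfect (H : Cls D) (hconn : Conn D) :
    ⁅commutator G, commutator G⁆ = commutator G := by
  have hS := simple_commutator H hconn
  have hle : ⁅commutator G, commutator G⁆ ≤ commutator G := Subgroup.commutator_le_self _
  have hn : (⁅commutator G, commutator G⁆.subgroupOf (commutator G)).Normal := inferInstance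
  rcases hn.eq_bot_or_eq_top with h | h
  · rw [Subgroup.subgroupOf_eq_bot, disjoint_iff, inf_eq_left.2 hle] at h
    obtain ⟨x, y, hxy⟩ := commutator_nonabelian H
    refine absurd (Subtype.ext ?_) hxy
    have := Subgroup.commutator_mem_commutator x.2 y.2
    rw [h, Subgroup.mem_bot] at this
    exact commutatorElement_eq_one_iff_mul_comm.1 this
  · exact le_antisymm hle (Subgroup.subgroupOf_eq_top.1 h)

theorem triangle_of_isoTo_swaps_five (h : IsoTo D (swaps 5)) : Triangle D :=
  Triangle.of_isoTo h.symm triangle_swaps_five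

/-- Non-central local cores in a connected class. -/
theorem noncentral_cases (H : Cls D) (hconn : Conn D) (hC : ¬ Central D) :
    Triangle D ∨ ∃ n, 4 ≤ n ∧ IsUnit D n := by
  unfold Central at hC
  push Not at hC
  obtain ⟨x, hx, hat⟩ := hC
  by_cases h2 : Cfsg.pCore 2 ↥(nbSub D x) ≤ Subgroup.center ↥(nbSub D x)
  · left
    have h3 : ¬ Cfsg.pCore 3 ↥(nbSub D x) ≤ Subgroup.center ↥(nbSub D x) := fun h => hat ⟨h2, h⟩
    have hodd : Cfsg.pCore 3 ↥(nbSub D x) ≤ Cfsg.oddCore ↥(nbSub D x) := by
      have : (Cfsg.pCore 3 ↥(nbSub D x)).Normal := by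
        rw [Cfsg.pCore]; exact Subgroup.sSup_normal _ fun N hN => hN.1
      refine Cores.le_oddCore ?_
      have : Fact (Nat.Prime 3) := ⟨Nat.prime_three⟩
      obtain ⟨k, hk⟩ := (IsPGroup.iff_card (p := 3)).1
        (Components.isPGroup_pCore (G := ↥(nbSub D x)) 3)
      rw [hk]
      exact (by decide : Odd 3).pow
    obtain ⟨e⟩ := S1615.result H.sol (commutator_perfect H hconn) H.cl x hx fun h =>
      h3 (hodd.trans h)
    exact triangle_of_isoTo_swaps_five (swaps_of_iso H e)
  have P := H80.TTPolar.polar_of_twins H hx h2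
  obtain ⟨a, ha⟩ := H.nb_nonempty hx
  have hline : ∀ p ∈ D, ∀ q ∈ nb D p,
      (H80.TTPolar.Ln D p q).ncard = (H80.TTPolar.Ln D x a).ncard :=
    fun p hp q hq => P.ncard_Ln hp hq hx ha
  rcases P.ncard_Ln_cases hx ha with h | h
  · exact Or.inl (triangle_of_three P fun p hp q hq => (hline p hp q hq).trans h)
  · exact Or.inr (H80.TTFischer.isUnit_of_five ⟨P, fun p hp q hq => (hline p hp q hq).trans h⟩)

end Cfsg.Agent.H7Fischer
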