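import Cfsg.Agent.H7Fischer.Residue
import Mathlib.LinearAlgebra.Finsupp.LinearCombination

/-!
The space spanned by the non-commutation patterns of a class, over the field with two elements,
with its alternating form.
-/

set_option autoImplicit false
set_option linter.unusedSectionVars false

namespace Cfsg.Agent.H7Fischer

open Cfsg
open H76.LocallyS3 (nb cj cj_cj cj_injective commute_cj_iff)
open H80.TTQuad (Cls cj_one cj_inv_cj cj_cj_inv cj_eq_of_commute commute_of_cj_eq nb_symm)
open LinearMap (BilinForm)

universe u

variable {G : Type u} [Group G] {D : Set G}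

open Classical in
/-- The non-commutation pattern of a member. -/
noncomputable def pat (a : ↥D) : ↥D → ZMod 2 := fun z => if Commute (z : G) a then 0 else 1

theorem pat_eq_zero {a z : ↥D} : pat a z = 0 ↔ Commute (z : G) a := by
  classical
  by_cases h : Commute (z : G) a <;> simp [pat, h]

theorem pat_eq_one {a z : ↥D} : pat a z = 1 ↔ ¬ Commute (z : G) a := by
  classical
  by_cases h : Commute (z : G) a <;> simp [pat, h]

theorem pat_comm (a z : ↥D) : pat a z = pat z a := by
  classical
  have h : Commute (z : G) a ↔ Commute (a : G) z := ⟨Commute.symm, Commute.symm⟩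
  simp [pat, h]

theorem pat_self (a : ↥D) : pat a a = 0 := pat_eq_zero.2 (Commute.refl _)

theorem z2_cases : ∀ c : ZMod 2, c = 0 ∨ c = 1 := by decide

theorem z2_add_self : ∀ c : ZMod 2, c + c = 0 := by decide

/-- Sums of patterns. -/
noncomputable def lc (D : Set G) : (↥D →₀ ZMod 2) →ₗ[ZMod 2] (↥D → ZMod 2) :=
  Finsupp.linearCombination (ZMod 2) pat

/-- The space of patterns. -/
noncomputable abbrev space (D : Set G) : Submodule (ZMod 2) (↥D → ZMod 2) := LinearMap.range (lc D)

/-- A member as a vector. -/
noncomputable def vec (a : ↥D) : space D :=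
  ⟨pat a, Finsupp.single a 1, by simp [lc]⟩

theorem vec_apply (a z : ↥D) : (vec a : ↥D → ZMod 2) z = pat a z := rfl

theorem space_add_self (v : space D) : v + v = 0 :=
  Subtype.ext (funext fun _ => z2_add_self _)

theorem space_add_cancel (v w : space D) : v + w + w = v := by
  rw [add_assoc, space_add_self, add_zero]

theorem space_eq_of_add_eq_zero {v w : space D} (h : v + w = 0) : v = w := by
  rw [← space_add_cancel v w, h, zero_add]

theorem space_smul (c : ZMod 2) (v : space D) : c • v = 0 ∨ c • v = v := by
  rcases z2_cases c with rfl | rfl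
  · exact Or.inl (zero_smul _ v)
  · exact Or.inr (one_smul _ v)

/-- Induction by adding members. -/
theorem space_induction {P : space D → Prop} (zero : P 0)
    (add : ∀ v a, P v → P (v + vec a)) (v : space D) : P v := by
  obtain ⟨v, c, rfl⟩ := v
  induction c using Finsupp.induction with
  | zero =>
    have h : (⟨lc D 0, 0, rfl⟩ : space D) = 0 := Subtype.ext (map_zero _)
    exact h.symm ▸ zero
  | single_add a b f _ hb ih =>
    rw [(z2_cases b).resolve_left hb]
    have h : (⟨lc D (Finsupp.single a 1 + f), _, rfl⟩ : space D) = ⟨lc D f, _, rfl⟩ + vec a :=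
      Subtype.ext (by simp [lc, vec, add_comm])
    exact h.symm ▸ add _ a ih

/-- Evaluation at a member. -/
noncomputable def ev (a : ↥D) : Module.Dual (ZMod 2) (space D) :=
  (LinearMap.proj a).comp (space D).subtype

theorem ev_apply (a : ↥D) (v : space D) : ev a v = (v : ↥D → ZMod 2) a := rfl

noncomputable def lcEv (D : Set G) : (↥D →₀ ZMod 2) →ₗ[ZMod 2] Module.Dual (ZMod 2) (space D) :=
  Finsupp.linearCombination (ZMod 2) ev

theorem lc_ker_le : LinearMap.ker (lc D) ≤ LinearMap.ker (lcEv D) := by
  intro c hc
  rw [LinearMap.mem_ker] at hc ⊢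
  refine LinearMap.ext fun w => ?_
  induction w using space_induction with
  | zero => simp
  | add v b ih =>
    rw [map_add, ih, LinearMap.zero_apply, zero_add, LinearMap.zero_apply]
    have h := congrFun hc b
    simp only [lc, Finsupp.linearCombination_apply, Finsupp.sum, Finset.sum_apply, Pi.smul_apply,
      smul_eq_mul, Pi.zero_apply] at h
    simp only [lcEv, Finsupp.linearCombination_apply, Finsupp.sum, LinearMap.coe_sum,
      Finset.sum_apply, LinearMap.smul_apply, ev_apply, vec_apply, smul_eq_mul]
    rw [← h]
    exact Finset.sum_congr rfl fun a _ => by rw [pat_comm]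

/-- The form: `form (vec a) w = w a`. -/
noncomputable def form (D : Set G) : BilinForm (ZMod 2) (space D) :=
  (Submodule.liftQ _ (lcEv D) lc_ker_le).comp (lc D).quotKerEquivRange.symm.toLinearMap

theorem form_vec_left (a : ↥D) (w : space D) : form D (vec a) w = (w : ↥D → ZMod 2) a := by
  have h : (lc D).quotKerEquivRange.symm (vec a) = Submodule.Quotient.mk (Finsupp.single a 1) := by
    rw [LinearEquiv.symm_apply_eq]
    exact Subtype.ext (by rw [LinearMap.quotKerEquivRange_apply_mk]; simp [vec, lc])
  show (Submodule.liftQ _ (lcEv D) lc_ker_le) ((lc D).quotKerEquivRange.symm (vec a)) w = _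
  rw [h, Submodule.liftQ_apply]
  simp [lcEv, ev_apply]

theorem form_vec (a b : ↥D) : form D (vec a) (vec b) = pat b a := form_vec_left a _

theorem form_vec_right (v : space D) (a : ↥D) : form D v (vec a) = (v : ↥D → ZMod 2) a := by
  induction v using space_induction with
  | zero => simp
  | add v b ih => rw [LinearMap.map_add₂, ih, form_vec, pat_comm]; rfl

theorem form_comm (v w : space D) : form D v w = form D w v := by
  induction v using space_induction with
  | zero => simp
  | add v a ih => rw [LinearMap.map_add₂, map_add, ih, form_vec_left, form_vec_right]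

theorem form_isAlt : (form D).IsAlt := by
  intro v
  induction v using space_induction with
  | zero => simp
  | add v a ih =>
    rw [LinearMap.map_add₂, map_add, map_add, ih, form_comm (vec a) v, form_vec, pat_self, zero_add,
      add_zero, z2_add_self]

theorem eq_zero_of_form {v : space D} (h : ∀ a, form D v (vec a) = 0) : v = 0 :=
  Subtype.ext (funext fun a => (form_vec_right v a).symm.trans (h a))

theorem eq_zero_of_form' {v : space D} (h : ∀ w, form D v w = 0) : v = 0 :=
  eq_zero_of_form fun a => h _

theorem form_nondegenerate : (form D).Nondegenerate :=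
  ⟨fun _ hv => eq_zero_of_form' hv,
    fun v hv => eq_zero_of_form' fun w => (form_comm v w).trans (hv w)⟩

theorem vec_injective [Finite G] (H : Cls D) : Function.Injective (vec : ↥D → space D) := by
  intro a b h
  refine Subtype.ext (H.eq_of_commute_subset a.2 b.2 fun w hw hc => ?_)
  have h1 : pat a ⟨w, hw⟩ = 0 := pat_eq_zero.2 hc.symm
  have h2 : pat b ⟨w, hw⟩ = pat a ⟨w, hw⟩ :=
    (congrFun (congrArg Subtype.val h) ⟨w, hw⟩).symm
  exact (pat_eq_zero.1 (h2.trans h1)).symm

theorem vec_ne_zero [Finite G] (H : Cls D) (a : ↥D) : vec a ≠ 0 := by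
  obtain ⟨f, hf, haf⟩ := H.exists_noncommute a.2
  intro h
  have h1 : pat a ⟨f, hf⟩ = 1 := pat_eq_one.2 fun q => haf q.symm
  have h2 : pat a ⟨f, hf⟩ = 0 := congrFun (congrArg Subtype.val h) ⟨f, hf⟩
  exact zero_ne_one (h2.symm.trans h1)

theorem space_finite [Finite G] : Module.Finite (ZMod 2) (space D) := inferInstance

/-! ### conjugation -/

/-- The image of a member under conjugation. -/
def mv (H : Cls D) (g : G) (a : ↥D) : ↥D := ⟨cj g a, H.mem_cj g a.2⟩

theorem mv_val (H : Cls D) (g : G) (a : ↥D) : (mv H g a : G) = cj g a := rfl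

theorem mv_inv (H : Cls D) (g : G) (a : ↥D) : mv H g (mv H g⁻¹ a) = a :=
  Subtype.ext (cj_cj_inv g (a : G))

theorem mv_injective (H : Cls D) (g : G) : Function.Injective (mv H g) :=
  fun _ _ h => Subtype.ext (cj_injective g (congrArg Subtype.val h))

theorem pat_mv (H : Cls D) (g : G) (a z : ↥D) : pat (mv H g a) (mv H g z) = pat a z := by
  classical
  simp [pat, mv_val, commute_cj_iff]

theorem vec_mv_add (H : Cls D) (g : G) {a b c : ↥D} (h : vec a + vec b = vec c) :
    vec (mv H g a) + vec (mv H g b) = vec (mv H g c) := by
  refine Subtype.ext (funext fun z => ?_)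
  have h' := congrFun (congrArg Subtype.val h) (mv H g⁻¹ z)
  show pat (mv H g a) z + pat (mv H g b) z = pat (mv H g c) z
  rw [← mv_inv H g z, pat_mv, pat_mv, pat_mv]
  exact h'

/-! ### the triangle property -/

/-- The third member of the line through two members. -/
def third (H : Cls D) (a b : ↥D) : ↥D := mv H (a : G) b

theorem vec_third (H : Cls D) (hT : Triangle D) {a b : ↥D} (h : form D (vec a) (vec b) = 1) :
    vec (third H a b) = vec a + vec b := by
  rw [form_vec, pat_eq_one] at h
  refine Subtype.ext (funext fun z => ?_)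
  show pat (third H a b) z = pat a z + pat b z
  have ht := hT a a.2 b b.2 h z z.2
  classical
  by_cases h1 : Commute (z : G) a <;> by_cases h2 : Commute (z : G) b <;>
    simp [pat, third, mv_val, ht, h1, h2, z2_add_self]

/-- Two members with form one have a member as sum. -/
theorem exists_vec_add (H : Cls D) (hT : Triangle D) {a b : ↥D}
    (h : form D (vec a) (vec b) = 1) : ∃ c, vec c = vec a + vec b :=
  ⟨_, vec_third H hT h⟩

theorem form_vec_zero {a b : ↥D} : form D (vec a) (vec b) = 0 ↔ Commute (a : G) b := by
  rw [form_vec, pat_eq_zero]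

theorem form_vec_one {a b : ↥D} : form D (vec a) (vec b) = 1 ↔ ¬ Commute (a : G) b := by
  rw [form_vec, pat_eq_one]

/-- A vector orthogonal to `x` and to all members at `x` is zero or `x`. -/
theorem eq_of_perp [Finite G] (H : Cls D) (hT : Triangle D) {x : ↥D} {v : space D}
    (h : ∀ b : ↥D, Commute (x : G) b → form D v (vec b) = 0) : v = 0 ∨ v = vec x := by
  obtain ⟨f, hf, hxf⟩ := H.exists_noncommute x.2
  have hxf' : form D (vec x) (vec ⟨f, hf⟩) = 1 := form_vec_one.2 hxf
  have key : ∀ b : ↥D, form D v (vec b) = form D v (vec ⟨f, hf⟩) * form D (vec x) (vec b) := by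
    intro b
    by_cases hb : Commute (x : G) b
    · rw [h b hb, form_vec_zero.2 hb, mul_zero]
    have hb' : form D (vec x) (vec b) = 1 := form_vec_one.2 hb
    rw [hb', mul_one]
    by_cases hfb : Commute (b : G) f
    · -- through the third member of `x` and `f`
      have hg : form D (vec b) (vec (third H x ⟨f, hf⟩)) = 1 := by
        rw [vec_third H hT hxf', map_add, form_comm, hb', form_vec_zero.2 hfb, add_zero]
      obtain ⟨c, hc⟩ := exists_vec_add H hT hg
      have hcx : Commute (x : G) c := by
        rw [← form_vec_zero, hc, vec_third H hT hxf', map_add, map_add, hb', form_isAlt, hxf']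
        decide
      have h0 := h c hcx
      rw [hc, vec_third H hT hxf', map_add, map_add, h x (Commute.refl _), zero_add] at h0
      revert h0
      generalize form D v (vec b) = p
      generalize form D v (vec ⟨f, hf⟩) = q
      revert p q
      decide
    · obtain ⟨c, hc⟩ := exists_vec_add H hT (a := b) (b := ⟨f, hf⟩) (form_vec_one.2 hfb)
      have hcx : Commute (x : G) c := by
        rw [← form_vec_zero, hc, map_add, hb', hxf']
        decide
      have h0 := h c hcx
      rw [hc, map_add] at h0
      revert h0
      generalize form D v (vec b) = p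
      generalize form D v (vec ⟨f, hf⟩) = q
      revert p q
      decide
  rcases z2_cases (form D v (vec ⟨f, hf⟩)) with e | e
  · exact Or.inl (eq_zero_of_form fun b => by rw [key, e, zero_mul])
  · refine Or.inr (space_eq_of_add_eq_zero (eq_zero_of_form fun b => ?_))
    rw [LinearMap.map_add₂, key, e, one_mul, z2_add_self]

end Cfsg.Agent.H7Fischer
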