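import Cfsg.Agent.H7Fischer.Star
import Mathlib.GroupTheory.Perm.Support

/-!
In a class with the triangle property, three members `A`, `P`, `Q` with `A`, `P` commuting and
`Q` commuting with neither have two non-commuting members commuting with all three, unless the
space is small or the class is the orthogonal one of minus type in dimension six.
-/

set_option autoImplicit false
set_option linter.unusedSectionVars false

namespace Cfsg.Agent.H7Fischer

open Cfsg
open H76.LocallyS3 (nb cj cj_cj cj_injective commute_cj_iff)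
open H80.TTQuad (Cls cj_one cj_inv_cj cj_cj_inv cj_eq_of_commute commute_of_cj_eq nb_symm)
open Module

universe u

variable {G : Type u} [Group G] {D : Set G}

/-- Two non-commuting members commuting with `A`, `P`, `Q`. -/
def HasPair (A P Q : ↥D) : Prop :=
  ∃ b e : ↥D, ¬ Commute (b : G) e ∧ (Commute (b : G) A ∧ Commute (b : G) P ∧ Commute (b : G) Q) ∧
    (Commute (e : G) A ∧ Commute (e : G) P ∧ Commute (e : G) Q)

/-- Only `0` and the sum of `A`, `P` are orthogonal to the three. -/
def Thin (A P Q : ↥D) : Prop :=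
  ∀ v : space D, form D v (vec A) = 0 → form D v (vec P) = 0 → form D v (vec Q) = 0 →
    v = 0 ∨ v = vec A + vec P

theorem form_swap_eq {v w : space D} {c : ZMod 2} (h : form D v w = c) : form D w v = c := by
  rw [form_comm]; exact h

/-- Three hyperbolic pairs. -/
structure Hex (p q r w s t : space D) : Prop where
  pq : form D p q = 1
  rw' : form D r w = 1
  st : form D s t = 1
  pr : form D p r = 0
  pw : form D p w = 0
  ps : form D p s = 0
  pt : form D p t = 0
  qr : form D q r = 0
  qw : form D q w = 0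
  qs : form D q s = 0
  qt : form D q t = 0
  rs : form D r s = 0
  rt : form D r t = 0
  ws : form D w s = 0
  wt : form D w t = 0

/-- The index set of six coordinates. -/
abbrev Six : Type := (Fin 2 ⊕ Fin 2) ⊕ Fin 2

/-- The combination with six coefficients. -/
noncomputable def hexMap (p q r w s t : space D) : (Six → ZMod 2) →ₗ[ZMod 2] space D :=
  (LinearMap.proj (R := ZMod 2) (φ := fun _ : Six => ZMod 2) (.inl (.inl 0))).smulRight r +
    (LinearMap.proj (R := ZMod 2) (φ := fun _ : Six => ZMod 2) (.inl (.inr 0))).smulRight w +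
    (LinearMap.proj (R := ZMod 2) (φ := fun _ : Six => ZMod 2) (.inl (.inl 1))).smulRight s +
    (LinearMap.proj (R := ZMod 2) (φ := fun _ : Six => ZMod 2) (.inl (.inr 1))).smulRight t +
    (LinearMap.proj (R := ZMod 2) (φ := fun _ : Six => ZMod 2) (.inr 0)).smulRight p +
    (LinearMap.proj (R := ZMod 2) (φ := fun _ : Six => ZMod 2) (.inr 1)).smulRight q

theorem hexMap_apply (p q r w s t : space D) (x : Six → ZMod 2) :
    hexMap p q r w s t x = x (.inl (.inl 0)) • r + x (.inl (.inr 0)) • w + x (.inl (.inl 1)) • s +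
      x (.inl (.inr 1)) • t + x (.inr 0) • p + x (.inr 1) • q := rfl

/-- The six coordinates. -/
noncomputable def hexCoord (p q r w s t : space D) : space D →ₗ[ZMod 2] (Six → ZMod 2) :=
  LinearMap.pi (Sum.elim (Sum.elim ![(form D).flip w, (form D).flip t]
    ![(form D).flip r, (form D).flip s]) ![(form D).flip q, (form D).flip p])

theorem hexCoord_hexMap {p q r w s t : space D} (h : Hex p q r w s t) (x : Six → ZMod 2) :
    hexCoord p q r w s t (hexMap p q r w s t x) = x := by
  funext i
  rcases i with (i | i) | i <;> fin_cases i <;>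
    simp [hexCoord, hexMap_apply, form_isAlt _, h.pq, h.rw', h.st, h.pr, h.pw, h.ps, h.pt, h.qr,
      h.qw, h.qs, h.qt, h.rs, h.rt, h.ws, h.wt, form_swap_eq h.pq, form_swap_eq h.rw',
      form_swap_eq h.st, form_swap_eq h.pr, form_swap_eq h.pw, form_swap_eq h.ps,
      form_swap_eq h.pt, form_swap_eq h.qr, form_swap_eq h.qw, form_swap_eq h.qs,
      form_swap_eq h.qt, form_swap_eq h.rs, form_swap_eq h.rt, form_swap_eq h.ws,
      form_swap_eq h.wt]

variable [Finite G]

theorem six_le_of_hex {p q r w s t : space D} (h : Hex p q r w s t) :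
    6 ≤ finrank (ZMod 2) (space D) := by
  have hinj : Function.Injective (hexMap p q r w s t) :=
    Function.LeftInverse.injective (g := hexCoord p q r w s t) (hexCoord_hexMap h)
  have := LinearMap.finrank_le_finrank_of_injective hinj
  simpa using this

/-- Transpositions of degree `n` span at most `n - 1` dimensions. -/
theorem finrank_swaps_le (H : Cls D) (hT : Triangle D) {n : ℕ} (hn : 2 ≤ n)
    (hI : IsoTo D (swaps n)) : finrank (ZMod 2) (space D) ≤ n - 1 := by
  classical
  obtain ⟨k, rfl⟩ : ∃ k, n = k + 1 := ⟨n - 1, by omega⟩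
  obtain ⟨e, he⟩ := hI
  have mem : ∀ {i j : Fin (k + 1)}, i ≠ j → e.symm (Equiv.swap i j) ∈ D := fun {i j} h => by
    have : Equiv.swap i j ∈ e '' D := he.symm ▸ (⟨i, j, h, rfl⟩ : Equiv.swap i j ∈ swaps _)
    obtain ⟨d, hd, hde⟩ := this
    rwa [← hde, e.symm_apply_apply]
  let a : Fin k → ↥D := fun i => ⟨e.symm (Equiv.swap 0 i.succ), mem (Fin.succ_ne_zero i).symm⟩
  have htop : Submodule.span (ZMod 2) (Set.range fun i => vec (a i)) = ⊤ := by
    refine Submodule.eq_top_iff'.2 fun v => ?_
    induction v using space_induction with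
    | zero => exact zero_mem _
    | add v z ih =>
      refine add_mem ih ?_
      obtain ⟨i, j, hij, hz⟩ : e z ∈ swaps (k + 1) := he ▸ ⟨z, z.2, rfl⟩
      have ez : (z : G) = e.symm (Equiv.swap i j) := by rw [← hz, e.symm_apply_apply]
      have hs : ∀ l : Fin k, vec (a l) ∈ Submodule.span (ZMod 2) (Set.range fun i => vec (a i)) :=
        fun l => Submodule.subset_span ⟨l, rfl⟩
      rcases Fin.eq_zero_or_eq_succ i with rfl | ⟨i', rfl⟩
      · obtain ⟨j', rfl⟩ := (Fin.eq_zero_or_eq_succ j).resolve_left hij.symm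
        rw [show z = a j' from Subtype.ext ez]
        exact hs j'
      rcases Fin.eq_zero_or_eq_succ j with rfl | ⟨j', rfl⟩
      · rw [Equiv.swap_comm] at ez
        rw [show z = a i' from Subtype.ext ez]
        exact hs i'
      have hij' : i'.succ ≠ j'.succ := hij
      have hprod : Equiv.swap (0 : Fin (k + 1)) i'.succ * Equiv.swap 0 j'.succ *
          Equiv.swap 0 i'.succ = Equiv.swap i'.succ j'.succ := by
        rw [Equiv.mul_swap_eq_swap_mul (Equiv.swap 0 i'.succ) 0 j'.succ, Equiv.swap_apply_left,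
          Equiv.swap_apply_of_ne_of_ne (Fin.succ_ne_zero _) hij'.symm, mul_assoc,
          Equiv.swap_mul_self, mul_one]
      have hcz : cj ((a i' : G)) (a j' : G) = z := by
        show e.symm _ * e.symm _ * (e.symm _)⁻¹ = _
        rw [ez, ← map_inv, ← map_mul, ← map_mul, Equiv.swap_inv, hprod]
      have hn' : ¬ Commute (a i' : G) (a j') := fun hc => by
        have := cj_eq_of_commute hc
        rw [hcz, ez] at this
        have h0 := congrArg (fun σ : Equiv.Perm (Fin (k + 1)) => σ 0) (e.symm.injective this)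
        simp only [Equiv.swap_apply_left] at h0
        rw [Equiv.swap_apply_of_ne_of_ne (Fin.succ_ne_zero _).symm (Fin.succ_ne_zero _).symm] at h0
        exact (Fin.succ_ne_zero _) h0.symm
      rw [show z = third H (a i') (a j') from Subtype.ext hcz.symm,
        vec_third H hT (form_vec_one.2 hn')]
      exact add_mem (hs _) (hs _)
  have h1 := finrank_range_le_card (R := ZMod 2) fun i => vec (a i)
  rw [Set.finrank, htop, finrank_top, Fintype.card_fin] at h1
  simpa using h1

theorem support_not_disjoint {α : Type*} [Fintype α] [DecidableEq α] {σ τ : Equiv.Perm α}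
    (h : ¬ Commute σ τ) : (σ.support ∩ τ.support).Nonempty := by
  rw [← Finset.not_disjoint_iff_nonempty_inter]
  exact fun hd => h (Equiv.Perm.disjoint_iff_disjoint_support.2 hd).commute

/-- Transpositions of degree at least seven always have the pair. -/
theorem hasPair_swaps (H : Cls D) {n : ℕ} (hn : 7 ≤ n) (hI : IsoTo D (swaps n)) {A P Q : ↥D}
    (hAQ : ¬ Commute (A : G) Q) (hPQ : ¬ Commute (P : G) Q) : HasPair A P Q := by
  classical
  obtain ⟨e, he⟩ := hI
  have hsw : ∀ z : ↥D, (e z).support.card = 2 := fun z => by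
    obtain ⟨i, j, hij, hz⟩ : e z ∈ swaps n := he ▸ ⟨z, z.2, rfl⟩
    rw [hz, Equiv.Perm.card_support_swap hij]
  have hne : ∀ {x y : ↥D}, ¬ Commute (x : G) y → ((e x).support ∩ (e y).support).Nonempty :=
    fun {x y} h => support_not_disjoint fun hc => h ((commute_map_iff' e).1 hc)
  set U := (e A).support ∪ (e P).support ∪ (e Q).support with hU
  have hUc : U.card ≤ 4 := by
    have h1 := Finset.card_union_add_card_inter (e P).support (e Q).support
    have h2 := (hne hPQ).card_pos
    have h3 := Finset.card_union_add_card_inter (e A).support ((e P).support ∪ (e Q).support)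
    have h4 : ((e A).support ∩ ((e P).support ∪ (e Q).support)).Nonempty :=
      (hne hAQ).mono (Finset.inter_subset_inter_left Finset.subset_union_right)
    have h5 := h4.card_pos
    have h6 := hsw A
    have h7 := hsw P
    have h8 := hsw Q
    rw [hU, Finset.union_assoc]
    omega
  have h3 : 2 < (Finset.univ \ U).card := by
    rw [Finset.card_univ_diff, Fintype.card_fin]; omega
  obtain ⟨x, y, z, hx, hy, hz, hxy, hxz, hyz⟩ := Finset.two_lt_card_iff.1 h3
  have mem : ∀ {i j : Fin n}, i ≠ j → e.symm (Equiv.swap i j) ∈ D := fun {i j} h => by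
    have : Equiv.swap i j ∈ e '' D := he.symm ▸ (⟨i, j, h, rfl⟩ : Equiv.swap i j ∈ swaps _)
    obtain ⟨d, hd, hde⟩ := this
    rwa [← hde, e.symm_apply_apply]
  have hout : ∀ {i j : Fin n} (hij : i ≠ j), i ∈ Finset.univ \ U → j ∈ Finset.univ \ U →
      ∀ w : ↥D, (e w).support ⊆ U → Commute (e.symm (Equiv.swap i j)) (w : G) := by
    intro i j hij hi hj w hw
    rw [← commute_map_iff' e, e.apply_symm_apply]
    refine (Equiv.Perm.disjoint_iff_disjoint_support.2 ?_).commute
    rw [Equiv.Perm.support_swap hij, Finset.disjoint_left]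
    intro l hl hlw
    have hlU := hw hlw
    rcases Finset.mem_insert.1 hl with rfl | hl
    · exact (Finset.mem_sdiff.1 hi).2 hlU
    · rw [Finset.mem_singleton] at hl
      subst hl
      exact (Finset.mem_sdiff.1 hj).2 hlU
  have sA : (e A).support ⊆ U := Finset.subset_union_left.trans Finset.subset_union_left
  have sP : (e P).support ⊆ U := Finset.subset_union_right.trans Finset.subset_union_left
  have sQ : (e Q).support ⊆ U := Finset.subset_union_right
  refine ⟨⟨_, mem hxy⟩, ⟨_, mem hyz⟩, fun hc => ?_,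
    ⟨hout hxy hx hy A sA, hout hxy hx hy P sP, hout hxy hx hy Q sQ⟩,
    ⟨hout hyz hy hz A sA, hout hyz hy hz P sP, hout hyz hy hz Q sQ⟩⟩
  have hc' := (commute_map_iff' e.symm).1 hc
  have := congrArg (fun σ : Equiv.Perm (Fin n) => σ x) hc'.eq
  simp only [Equiv.Perm.mul_apply, Equiv.swap_apply_of_ne_of_ne hxy hxz, Equiv.swap_apply_left]
    at this
  exact hyz this

theorem z2_eq_one : ∀ {c : ZMod 2}, c ≠ 0 → c = 1 := by decide

/-- The alternatives for three members. -/
theorem pair_cases (H : Cls D) (hT : Triangle D) {A P Q : ↥D} (hAP : Commute (A : G) P)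
    (hne : A ≠ P) (hAQ : ¬ Commute (A : G) Q) (hPQ : ¬ Commute (P : G) Q) :
    HasPair A P Q ∨ Thin A P Q ∨ IsoTo D (orthTv (Cfsg.quadFormMinus 2 (ZMod 2) 1 1)) := by
  classical
  have smul_self : ∀ v : space D, v + v = 0 := space_add_self
  have nondeg : ∀ v : space D, v ≠ 0 → ∃ u, form D v u = 1 := fun v hv => by
    by_contra h
    push Not at h
    exact hv (eq_zero_of_form' fun u => (z2_cases _).resolve_right (h u))
  obtain ⟨r, hr⟩ : ∃ r : space D, r = vec A + vec P := ⟨_, rfl⟩
  have eAP : form D (vec A) (vec P) = 0 := form_vec_zero.2 hAP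
  have eAQ : form D (vec A) (vec Q) = 1 := form_vec_one.2 hAQ
  have ePQ : form D (vec P) (vec Q) = 1 := form_vec_one.2 hPQ
  have hr0 : r ≠ 0 := fun e => hne (vec_injective H (space_eq_of_add_eq_zero (hr ▸ e)))
  have erP : form D r (vec P) = 0 := by rw [hr, LinearMap.map_add₂, eAP, form_isAlt, add_zero]
  have erQ : form D r (vec Q) = 0 := by rw [hr, LinearMap.map_add₂, eAQ, ePQ]; decide
  have erA : form D r (vec A) = 0 := by
    rw [hr, LinearMap.map_add₂, form_isAlt, form_swap_eq eAP, add_zero]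
  obtain ⟨w₀, hw₀⟩ := nondeg r hr0
  obtain ⟨w, hw⟩ : ∃ w : space D,
      w = w₀ + form D w₀ (vec Q) • vec P + form D w₀ (vec P) • vec Q := ⟨_, rfl⟩
  have erw : form D r w = 1 := by
    rw [hw, map_add, map_add, map_smul, map_smul, hw₀, erP, erQ, smul_zero, smul_zero, add_zero,
      add_zero]
  have ewP : form D w (vec P) = 0 := by
    rw [hw]
    simp only [LinearMap.map_add₂, LinearMap.map_smul₂, form_isAlt (vec P), form_swap_eq ePQ,
      smul_eq_mul, mul_zero, mul_one, add_zero, z2_add_self]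
  have ewQ : form D w (vec Q) = 0 := by
    rw [hw]
    simp only [LinearMap.map_add₂, LinearMap.map_smul₂, form_isAlt (vec Q), ePQ, smul_eq_mul,
      mul_zero, mul_one, add_zero, z2_add_self]
  have hA' : vec A = r + vec P := by rw [hr, space_add_cancel]
  -- the projection on the orthogonal of the four
  obtain ⟨π, hπ⟩ : ∃ π : space D → space D, ∀ v, π v = v + form D v (vec Q) • vec P +
      form D v (vec P) • vec Q + form D v w • r + form D v r • w := ⟨_, fun _ => rfl⟩
  have hπP : ∀ v, form D (π v) (vec P) = 0 := fun v => by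
    simp only [hπ, LinearMap.map_add₂, LinearMap.map_smul₂, form_isAlt (vec P), form_swap_eq ePQ,
      erP, ewP, smul_eq_mul, mul_zero, mul_one, add_zero, z2_add_self]
  have hπQ : ∀ v, form D (π v) (vec Q) = 0 := fun v => by
    simp only [hπ, LinearMap.map_add₂, LinearMap.map_smul₂, form_isAlt (vec Q), ePQ,
      erQ, ewQ, smul_eq_mul, mul_zero, mul_one, add_zero, z2_add_self]
  have hπr : ∀ v, form D (π v) r = 0 := fun v => by
    simp only [hπ, LinearMap.map_add₂, LinearMap.map_smul₂, form_isAlt r, form_swap_eq erP,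
      form_swap_eq erQ, form_swap_eq erw, smul_eq_mul, mul_zero, mul_one, add_zero, z2_add_self]
  have hπw : ∀ v, form D (π v) w = 0 := fun v => by
    simp only [hπ, LinearMap.map_add₂, LinearMap.map_smul₂, form_isAlt w, form_swap_eq ewP,
      form_swap_eq ewQ, erw, smul_eq_mul, mul_zero, mul_one, add_zero, z2_add_self]
  have hπA : ∀ v, form D (π v) (vec A) = 0 := fun v => by
    rw [hA', map_add, hπr, hπP, add_zero]
  have hπz : ∀ z v, form D z (vec P) = 0 → form D z (vec Q) = 0 → form D z r = 0 →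
      form D z w = 0 → form D z (π v) = form D z v := fun z v h1 h2 h3 h4 => by
    simp only [hπ, map_add, map_smul, h1, h2, h3, h4, smul_zero, add_zero]
  by_cases hall : ∀ v, π v = 0
  · refine Or.inr (Or.inl fun v h1 h2 h3 => ?_)
    have hv := hall v
    have hvr : form D v r = 0 := by rw [hr, map_add, h1, h2, add_zero]
    rw [hπ, h2, h3, hvr, zero_smul, zero_smul, zero_smul, add_zero, add_zero, add_zero] at hv
    have := space_eq_of_add_eq_zero hv
    rcases z2_cases (form D v w) with e | e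
    · exact Or.inl (by rwa [e, zero_smul] at this)
    · exact Or.inr (by rwa [e, one_smul, hr] at this)
  push Not at hall
  obtain ⟨v₁, hv₁⟩ := hall
  obtain ⟨z₁, hz₁⟩ : ∃ z, z = π v₁ := ⟨_, rfl⟩
  obtain ⟨u₁, hu₁⟩ := nondeg z₁ (hz₁ ▸ hv₁)
  obtain ⟨z₂, hz₂⟩ : ∃ z, z = π u₁ := ⟨_, rfl⟩
  have e12 : form D z₁ z₂ = 1 := by
    rw [hz₂, hπz _ _ (hz₁ ▸ hπP v₁) (hz₁ ▸ hπQ v₁) (hz₁ ▸ hπr v₁) (hz₁ ▸ hπw v₁), hu₁]
  have pair_of : ∀ b e : ↥D, form D (vec b) (vec e) = 1 →
      (form D (vec b) (vec A) = 0 ∧ form D (vec b) (vec P) = 0 ∧ form D (vec b) (vec Q) = 0) →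
      (form D (vec e) (vec A) = 0 ∧ form D (vec e) (vec P) = 0 ∧ form D (vec e) (vec Q) = 0) →
      HasPair A P Q := fun b e h hb he => ⟨b, e, form_vec_one.1 h,
        ⟨form_vec_zero.1 hb.1, form_vec_zero.1 hb.2.1, form_vec_zero.1 hb.2.2⟩,
        ⟨form_vec_zero.1 he.1, form_vec_zero.1 he.2.1, form_vec_zero.1 he.2.2⟩⟩
  rcases triangle_classify H hT with ⟨hS, -⟩ | ⟨hN, ⟨hg, -⟩ | ⟨-, n, hn, hI⟩⟩
  · -- all non-zero vectors are members
    left
    have h1 : z₁ ≠ 0 := hz₁ ▸ hv₁
    have h2 : z₂ ≠ 0 := fun e => by rw [e, map_zero] at e12; exact zero_ne_one e12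
    obtain ⟨b, hb⟩ := full_of_allSum H hT hS z₁ h1
    obtain ⟨e, he⟩ := full_of_allSum H hT hS z₂ h2
    refine pair_of b e (by rw [hb, he, e12]) ?_ ?_
    · rw [hb, hz₁]; exact ⟨hπA _, hπP _, hπQ _⟩
    · rw [he, hz₂]; exact ⟨hπA _, hπP _, hπQ _⟩
  swap
  · -- transpositions
    left
    refine hasPair_swaps H ?_ hI hAQ hPQ
    have h6 := six_le_of_hex (p := vec P) (q := vec Q) (r := r) (w := w) (s := z₁) (t := z₂)
      ⟨ePQ, erw, e12, form_swap_eq erP, form_swap_eq ewP, form_swap_eq (hz₁ ▸ hπP v₁),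
        form_swap_eq (hz₂ ▸ hπP u₁), form_swap_eq erQ, form_swap_eq ewQ,
        form_swap_eq (hz₁ ▸ hπQ v₁), form_swap_eq (hz₂ ▸ hπQ u₁), form_swap_eq (hz₁ ▸ hπr v₁),
        form_swap_eq (hz₂ ▸ hπr u₁), form_swap_eq (hz₁ ▸ hπw v₁), form_swap_eq (hz₂ ▸ hπw u₁)⟩
    have := finrank_swaps_le H hT (by omega) hI
    omega
  -- the quadratic form
  have hq := qf_add H hT hN hg
  -- the vectors orthogonal to the three
  let Perp : space D → Prop := fun z => form D z (vec P) = 0 ∧ form D z (vec Q) = 0 ∧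
    form D z r = 0 ∧ form D z w = 0
  have hPπ : ∀ v, Perp (π v) := fun v => ⟨hπP v, hπQ v, hπr v, hπw v⟩
  have hPadd : ∀ {a b : space D}, Perp a → Perp b → Perp (a + b) := fun {a b} ha hb =>
    ⟨by rw [LinearMap.map_add₂, ha.1, hb.1, add_zero],
      by rw [LinearMap.map_add₂, ha.2.1, hb.2.1, add_zero],
      by rw [LinearMap.map_add₂, ha.2.2.1, hb.2.2.1, add_zero],
      by rw [LinearMap.map_add₂, ha.2.2.2, hb.2.2.2, add_zero]⟩
  have hPA : ∀ {z : space D}, Perp z → form D z (vec A) = 0 := fun {z} hz => by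
    rw [hA', map_add, hz.2.2.1, hz.1, add_zero]
  have pair_q : ∀ a b : space D, Perp a → Perp b → form D a b = 1 → qf D a = 1 → qf D b = 1 →
      HasPair A P Q := by
    intro a b ha hb hab qa qb
    obtain ⟨x, rfl⟩ := qf_eq_one.1 qa
    obtain ⟨y, rfl⟩ := qf_eq_one.1 qb
    exact pair_of x y hab ⟨hPA ha, ha.1, ha.2.1⟩ ⟨hPA hb, hb.1, hb.2.1⟩
  obtain ⟨m, k, hm, hk, hmk, hqm⟩ : ∃ m k, Perp m ∧ Perp k ∧ form D m k = 1 ∧ qf D m = 1 := by
    rcases z2_cases (qf D z₁) with e | e
    · rcases z2_cases (qf D z₂) with e' | e'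
      · refine ⟨z₁ + z₂, z₁, hPadd (hz₁ ▸ hPπ v₁) (hz₂ ▸ hPπ u₁), hz₁ ▸ hPπ v₁, ?_, ?_⟩
        · rw [LinearMap.map_add₂, form_isAlt, form_swap_eq e12, zero_add]
        · rw [hq, e, e', e12]; decide
      · exact ⟨z₂, z₁, hz₂ ▸ hPπ u₁, hz₁ ▸ hPπ v₁, form_swap_eq e12, e'⟩
    · exact ⟨z₁, z₂, hz₁ ▸ hPπ v₁, hz₂ ▸ hPπ u₁, e12, e⟩
  rcases z2_cases (qf D k) with hqk | hqk
  swap
  · exact Or.inl (pair_q m k hm hk hmk hqm hqk)
  by_cases hs : ∃ s, Perp s ∧ form D s m = 0 ∧ form D s k = 0 ∧ qf D s = 1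
  · obtain ⟨s, hs1, hs2, hs3, hs4⟩ := hs
    refine Or.inl (pair_q m (k + s) hm (hPadd hk hs1) ?_ hqm ?_)
    · rw [map_add, hmk, form_swap_eq hs2, add_zero]
    · rw [hq, hqk, hs4, form_swap_eq hs3]; decide
  right; right
  -- the second projection vanishes
  obtain ⟨π', hπ'⟩ : ∃ π' : space D → space D, ∀ v,
      π' v = π v + form D (π v) k • m + form D (π v) m • k := ⟨_, fun _ => rfl⟩
  have hPsmul : ∀ (c : ZMod 2) {z : space D}, Perp z → Perp (c • z) := fun c z hz =>
    ⟨by rw [LinearMap.map_smul₂, hz.1, smul_zero], by rw [LinearMap.map_smul₂, hz.2.1, smul_zero],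
      by rw [LinearMap.map_smul₂, hz.2.2.1, smul_zero],
      by rw [LinearMap.map_smul₂, hz.2.2.2, smul_zero]⟩
  have hP' : ∀ v, Perp (π' v) := fun v => by
    rw [hπ']
    exact hPadd (hPadd (hPπ v) (hPsmul _ hm)) (hPsmul _ hk)
  have h'm : ∀ v, form D (π' v) m = 0 := fun v => by
    simp only [hπ', LinearMap.map_add₂, LinearMap.map_smul₂, form_isAlt m, form_swap_eq hmk,
      smul_eq_mul, mul_zero, mul_one, add_zero, z2_add_self]
  have h'k : ∀ v, form D (π' v) k = 0 := fun v => by
    simp only [hπ', LinearMap.map_add₂, LinearMap.map_smul₂, form_isAlt k, hmk,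
      smul_eq_mul, mul_zero, mul_one, add_zero, z2_add_self]
  have hπ'0 : ∀ v, π' v = 0 := by
    by_contra hne'
    push Not at hne'
    obtain ⟨v, hv⟩ := hne'
    obtain ⟨u, hu⟩ := nondeg (π' v) hv
    have e : form D (π' v) (π' u) = 1 := by
      rw [hπ' u, map_add, map_add, map_smul, map_smul, h'm, h'k, smul_zero, smul_zero, add_zero,
        add_zero, hπz _ _ (hP' v).1 (hP' v).2.1 (hP' v).2.2.1 (hP' v).2.2.2, hu]
    refine hs ?_
    rcases z2_cases (qf D (π' v)) with q1 | q1
    · rcases z2_cases (qf D (π' u)) with q2 | q2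
      · refine ⟨π' v + π' u, hPadd (hP' v) (hP' u), ?_, ?_, ?_⟩
        · rw [LinearMap.map_add₂, h'm, h'm, add_zero]
        · rw [LinearMap.map_add₂, h'k, h'k, add_zero]
        · rw [hq, q1, q2, e]; decide
      · exact ⟨π' u, hP' u, h'm u, h'k u, q2⟩
    · exact ⟨π' v, hP' v, h'm v, h'k v, q1⟩
  -- the frame of the minus form
  obtain ⟨c, hc⟩ : ∃ c, qf D w = c := ⟨_, rfl⟩
  obtain ⟨w', hw'⟩ : ∃ w' : space D, w' = w + c • r := ⟨_, rfl⟩
  have qA : qf D (vec A) = 1 := qf_vec A
  have qP : qf D (vec P) = 1 := qf_vec P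
  have qQ : qf D (vec Q) = 1 := qf_vec Q
  have qr : qf D r = 0 := by rw [hr, hq, qA, qP, eAP]; decide
  have qsm : ∀ (b : ZMod 2) (z : space D), qf D (b • z) = b * qf D z := fun b z => by
    rcases z2_cases b with rfl | rfl <;> simp [qf_zero H]
  have qw' : qf D w' = 0 := by
    rw [hw', hq, qsm, qr, map_smul, form_swap_eq erw, hc, smul_eq_mul, mul_one, mul_zero,
      add_zero, z2_add_self]
  have qk' : qf D (m + k) = 0 := by rw [hq, hqm, hqk, hmk]; decide
  have hH : Hex (vec P) (vec Q) r w' k (m + k) :=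
    ⟨ePQ, by rw [hw', map_add, map_smul, erw, form_isAlt, smul_zero, add_zero],
      by rw [map_add, form_swap_eq hmk, form_isAlt, add_zero],
      form_swap_eq erP, by rw [hw', map_add, map_smul, form_swap_eq ewP, form_swap_eq erP, smul_zero, add_zero],
      form_swap_eq hk.1, by rw [map_add, form_swap_eq hm.1, form_swap_eq hk.1, add_zero],
      form_swap_eq erQ, by rw [hw', map_add, map_smul, form_swap_eq ewQ, form_swap_eq erQ, smul_zero, add_zero],
      form_swap_eq hk.2.1, by rw [map_add, form_swap_eq hm.2.1, form_swap_eq hk.2.1, add_zero],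
      form_swap_eq hk.2.2.1, by rw [map_add, form_swap_eq hm.2.2.1, form_swap_eq hk.2.2.1, add_zero],
      by rw [hw', LinearMap.map_add₂, LinearMap.map_smul₂, form_swap_eq hk.2.2.2,
          form_swap_eq hk.2.2.1, smul_zero, add_zero],
      by rw [hw', LinearMap.map_add₂, LinearMap.map_smul₂, map_add, map_add, form_swap_eq hm.2.2.2,
          form_swap_eq hk.2.2.2, form_swap_eq hm.2.2.1, form_swap_eq hk.2.2.1, add_zero,
          smul_zero, add_zero]⟩
  set L := hexMap (vec P) (vec Q) r w' k (m + k) with hL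
  set C := hexCoord (vec P) (vec Q) r w' k (m + k) with hC
  have hCL : ∀ x, C (L x) = x := hexCoord_hexMap hH
  have hLC : ∀ v, L (C v) = v := fun v => by
    -- a vector orthogonal to the six is its own second projection
    obtain ⟨z, hz⟩ : ∃ z, z = v + L (C v) := ⟨_, rfl⟩
    have h0 : C z = 0 := by
      rw [hz, map_add, hCL]
      exact funext fun _ => z2_add_self _
    have co : ∀ i, C z i = 0 := fun i => congrFun h0 i
    have zw' : form D z w' = 0 := co (.inl (.inl 0))
    have zt : form D z (m + k) = 0 := co (.inl (.inl 1))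
    have zr : form D z r = 0 := co (.inl (.inr 0))
    have zk : form D z k = 0 := co (.inl (.inr 1))
    have zQ : form D z (vec Q) = 0 := co (.inr 0)
    have zP : form D z (vec P) = 0 := co (.inr 1)
    have zm : form D z m = 0 := by rwa [map_add, zk, add_zero] at zt
    have zw : form D z w = 0 := by rwa [hw', map_add, map_smul, zr, smul_zero, add_zero] at zw'
    have hπz0 : π z = z := by
      rw [hπ, zQ, zP, zw, zr, zero_smul, zero_smul, zero_smul, zero_smul, add_zero, add_zero,
        add_zero, add_zero]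
    have h1 := hπ'0 z
    rw [hπ', hπz0, zk, zm, zero_smul, zero_smul, add_zero, add_zero, hz] at h1
    exact (space_eq_of_add_eq_zero h1).symm
  let E : space D ≃ₗ[ZMod 2] (Six → ZMod 2) :=
    { C with invFun := L, left_inv := hLC, right_inv := hCL }
  have hP : ∀ x : Six → ZMod 2, Orthogonal.formMinus (ZMod 2) 2 1 1 x = qf D (L x) := fun x => by
    rw [Orthogonal.formMinus_coe, Cfsg.quadFormMinus, hL, hexMap_apply]
    simp only [hq, qsm, qr, qw', hqk, hqm, hmk, qP, qQ, map_smul, LinearMap.smul_apply,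
      LinearMap.map_add₂, hH.rw', hH.st, hH.pq, form_swap_eq hH.pr, form_swap_eq hH.pw,
      form_swap_eq hH.ps, form_swap_eq hH.pt, form_swap_eq hH.qr, form_swap_eq hH.qw,
      form_swap_eq hH.qs, form_swap_eq hH.qt, hH.rs, hH.rt, hH.ws, hH.wt,
      Fin.sum_univ_two, smul_eq_mul, mul_zero, mul_one, add_zero, zero_add]
    generalize x (.inl (.inl 0)) = a, x (.inl (.inr 0)) = b, x (.inl (.inl 1)) = a',
      x (.inl (.inr 1)) = b', x (.inr 0) = p', x (.inr 1) = q'
    revert a b a' b' p' q'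
    decide
  have hQ : Orthogonal.Nondeg (Orthogonal.formMinus (ZMod 2) 2 1 1) :=
    Orthogonal.formMinus_nondeg (F := ZMod 2) (m := 2) (a := 1) (b := 1) (by decide)
  have := isoTo_orth H hT (Q := Orthogonal.formMinus (ZMod 2) 2 1 1) hQ (by decide) E
    (fun u v => ?_) fun x => ?_
  · rwa [Orthogonal.formMinus_coe] at this
  · show QuadraticMap.polar _ (C u) (C v) = _
    rw [QuadraticMap.polar, hP, hP, hP, map_add L, hLC, hLC, hq]
    ring
  · rw [hP, qf_eq_one]
    exact exists_congr fun a => ⟨fun h => by show C (vec a) = x; rw [h, hCL],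
      fun h => by rw [← hLC (vec a)]; exact congrArg L h⟩

end Cfsg.Agent.H7Fischer
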