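import Cfsg.Agent.H7Fischer.Defs

/-!
Fischer's theorem: the residue of a member is again a class of 3-transpositions of a group
without solvable normal subgroups, and the members at `d` embed in it.
-/

set_option autoImplicit false
set_option linter.unusedSectionVars false

namespace Cfsg.Agent.H7Fischer

open Cfsg
open H76.LocallyS3 (nb cj cj_cj cj_injective commute_cj_iff)
open H80.TTQuad (Cls cj_one cj_inv_cj cj_cj_inv cj_eq_of_commute commute_of_cj_eq nb_symm
  commute_of_mem_closure_nb)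
open H93 (nbSub Residue)

universe u v

variable {G : Type u} [Group G] {D : Set G}

/-- With central cores every solvable normal subgroup is central. -/
theorem solvable_le_center [Finite G] (hD : Cfsg.IsThreeTranspositionClass D)
    (hD2 : ∃ a ∈ D, ∃ b ∈ D, a ≠ b) (h2 : Cfsg.pCore 2 G ≤ Subgroup.center G)
    (h3 : Cfsg.pCore 3 G ≤ Subgroup.center G) (M : Subgroup G) [M.Normal]
    (hM : Group.IsSolvable M) : M ≤ Subgroup.center G := by
  obtain ⟨L, hLn, hL, hF⟩ := Components.exists_qs_normal Components.zStarTheorem hD hD2 h2 h3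
  refine le_trans ?_ (Components.centralizer_le_center hD h2 h3 hF)
  rcases Components.qsSub_normal (N := M) hL (Components.le_normalizer_of_normal L) with h | h
  · exact absurd h (Components.qsSub_not_le_of_isSolvable hL hM)
  rw [← Subgroup.commutator_eq_bot_iff_le_centralizer, Subgroup.commutator_comm]
  refine Components.commutator_eq_bot_of_perfect (Components.qsSub_perfect hL) ?_
  rw [Subgroup.commutator_comm]
  exact le_bot_iff.1 (le_trans
    (Subgroup.commutator_mono le_rfl (Subgroup.commutator_le_inf L _)) h.le)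

theorem cls_of_cores [Finite G] (hD : Cfsg.IsThreeTranspositionClass D)
    (hD2 : ∃ a ∈ D, ∃ b ∈ D, a ≠ b) (hZ : Subgroup.center G = ⊥)
    (h2 : Cfsg.pCore 2 G ≤ Subgroup.center G) (h3 : Cfsg.pCore 3 G ≤ Subgroup.center G) :
    Cls D :=
  ⟨hD, fun N hN hs => le_bot_iff.1 (hZ ▸ solvable_le_center hD hD2 h2 h3 N hs)⟩

/-- The setting of a primitive class of width at least two. -/
theorem cls_of_primitive [Finite G] (hD : Cfsg.IsThreeTranspositionGroup D)
    (hprim : Cfsg.IsPrimitiveUnderConj D) (hZ : Subgroup.center G = ⊥)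
    (hw : ∃ a ∈ D, ∃ b ∈ D, a ≠ b ∧ Commute a b) : Cls D :=
  cls_of_cores (Components.class_of_primitive hD hprim) hprim.2.1 hZ
    (Components.pCore_two_le_center (Components.class_of_primitive hD hprim) hprim)
    (Components.pCore_three_le_center (Components.class_of_primitive hD hprim) hprim hw)

/-- The image of a member at `d` in the residue. -/
def rmk {d y : G} (h : y ∈ nb D d) : Residue D d := QuotientGroup.mk (el h)

theorem rmk_mem {d y : G} (h : y ∈ nb D d) : rmk h ∈ res D d := ⟨el h, el_mem h, rfl⟩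

theorem mem_res {d : G} {x : Residue D d} :
    x ∈ res D d ↔ ∃ y, ∃ h : y ∈ nb D d, rmk h = x := by
  constructor
  · rintro ⟨⟨y, hy'⟩, hy, rfl⟩
    exact ⟨y, hy, rfl⟩
  · rintro ⟨y, h, rfl⟩
    exact rmk_mem h

variable [Finite G]

theorem commute_rmk (H : Cls D) {d p q : G} (hp : p ∈ nb D d) (hq : q ∈ nb D d) :
    Commute (rmk hp) (rmk hq) ↔ Commute p q :=
  H93.residue_commute (H93.TT.of_class H.cl) hp hq

theorem rmk_inj (H : Cls D) (hC : Central D) {d p q : G} (hd : d ∈ D) (hp : p ∈ nb D d)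
    (hq : q ∈ nb D d) (h : rmk hp = rmk hq) : p = q := by
  refine (noTwin_iff H hd).1 (hC d hd).1 q hq p hp fun z hz => ?_
  rw [← commute_rmk H hp hz, ← commute_rmk H hq hz, h]

theorem rmk_cj (H : Cls D) {d p q : G} (hp : p ∈ nb D d) (hq : q ∈ nb D d) :
    rmk (H.cj_mem_nb hp.2.2.symm hq) = cj (rmk hp) (rmk hq) := rfl

theorem res_class (H : Cls D) {d : G} (hd : d ∈ D) :
    Cfsg.IsThreeTranspositionClass (res D d) := by
  have hE := nbClass_class H hd
  refine ⟨⟨fun x hx => ?_, fun x hx x' hx' => ?_⟩, ?_, ?_⟩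
  · obtain ⟨y, hy, rfl⟩ := mem_res.1 hx
    refine orderOf_eq_prime ?_ fun h1 => ?_
    · rw [rmk, ← QuotientGroup.mk_pow, pow_two,
        show el hy * el hy = 1 from Subtype.ext (H.sq hy.1)]
      rfl
    · obtain ⟨c, hc, hyc⟩ := H.exists_noncommute_nb hd hy
      refine hyc ((commute_rmk H hy hc).1 ?_)
      rw [h1]
      exact Commute.one_left _
  · obtain ⟨a, ha, rfl⟩ := hx
    obtain ⟨b, hb, rfl⟩ := hx'
    rcases hE.1.2 a ha b hb with h | h
    · left; rw [← QuotientGroup.mk_mul, ← QuotientGroup.mk_pow, h]; rfl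
    · right; rw [← QuotientGroup.mk_mul, ← QuotientGroup.mk_pow, h]; rfl
  · obtain ⟨a, ha, hEa⟩ := hE.2.1
    refine ⟨QuotientGroup.mk a, ⟨a, ha, rfl⟩, Set.ext fun x => ⟨?_, fun hx => ?_⟩⟩
    · rintro ⟨b, hb, rfl⟩
      rw [hEa] at hb
      obtain ⟨k, rfl⟩ := isConj_iff.1 hb
      exact isConj_iff.2 ⟨QuotientGroup.mk k, by simp⟩
    · obtain ⟨k, rfl⟩ := isConj_iff.1 hx
      obtain ⟨k, rfl⟩ := QuotientGroup.mk_surjective k
      refine ⟨k * a * k⁻¹, ?_, by simp⟩
      rw [hEa]
      exact isConj_iff.2 ⟨k, rfl⟩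
  · have h := congrArg (Subgroup.map (QuotientGroup.mk' (Subgroup.center ↥(nbSub D d)))) hE.2.2
    rw [MonoidHom.map_closure,
      Subgroup.map_top_of_surjective _ (QuotientGroup.mk'_surjective _)] at h
    exact h

/-- The residue has no solvable normal subgroups. -/
theorem res_cls (H : Cls D) (hC : Central D) {d : G} (hd : d ∈ D) : Cls (res D d) := by
  refine ⟨res_class H hd, fun N hN hs => ?_⟩
  set π := QuotientGroup.mk' (Subgroup.center ↥(nbSub D d)) with hπ
  have hker : π.ker = Subgroup.center ↥(nbSub D d) := QuotientGroup.ker_mk' _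
  have hsol : Group.IsSolvable ↥(N.comap π) := by
    let f : ↥(N.comap π) →* ↥N := π.subgroupComap N
    let i : ↥(Subgroup.center ↥(nbSub D d)) →* ↥(N.comap π) :=
      Subgroup.inclusion fun x hx => by
        show π x ∈ N
        rw [MonoidHom.mem_ker.1 (hker.symm ▸ hx)]
        exact one_mem N
    have : IsMulCommutative ↥(Subgroup.center ↥(nbSub D d)) := inferInstance
    have : Group.IsSolvable ↥(Subgroup.center ↥(nbSub D d)) := by
      open scoped IsMulCommutative in infer_instance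
    refine Group.isSolvable_of_ker_le_range i f fun x hx => ⟨⟨x, ?_⟩, Subtype.ext rfl⟩
    exact (QuotientGroup.eq_one_iff (x : ↥(nbSub D d))).1
      (congrArg Subtype.val (MonoidHom.mem_ker.1 hx))
  have hle := solvable_le_center (nbClass_class H hd) (nbClass_two H hd) (hC d hd).1 (hC d hd).2
    (N.comap π) hsol
  rw [eq_bot_iff]
  intro x hx
  obtain ⟨y, rfl⟩ := QuotientGroup.mk_surjective x
  exact Subgroup.mem_bot.2 ((QuotientGroup.eq_one_iff y).2 (hle hx))

/-- The members at `d` are the members of the residue. -/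
noncomputable def resEquiv (H : Cls D) (hC : Central D) {d : G} (hd : d ∈ D) :
    ↥(nb D d) ≃ ↥(res D d) :=
  Equiv.ofBijective (fun y => ⟨rmk y.2, rmk_mem y.2⟩)
    ⟨fun p q h => Subtype.ext (rmk_inj H hC hd p.2 q.2 (congrArg Subtype.val h)), fun x => by
      obtain ⟨y, hy, hx⟩ := mem_res.1 x.2
      exact ⟨⟨y, hy⟩, Subtype.ext hx⟩⟩

theorem resEquiv_apply (H : Cls D) (hC : Central D) {d : G} (hd : d ∈ D) (y : ↥(nb D d)) :
    (resEquiv H hC hd y : Residue D d) = rmk y.2 := rfl

section Transfer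

variable {G' : Type v} [Group G'] {D' : Set G'}

omit [Finite G] in
theorem Triangle.of_isoTo (h : IsoTo D D') (hT : Triangle D) : Triangle D' := by
  obtain ⟨e, rfl⟩ := h
  rintro _ ⟨x, hx, rfl⟩ _ ⟨y, hy, rfl⟩ hn _ ⟨z, hz, rfl⟩
  rw [← map_cj, commute_map_iff', commute_map_iff', commute_map_iff']
  exact hT x hx y hy (fun q => hn ((commute_map_iff' e).2 q)) z hz

omit [Finite G] in
theorem cls_of_isoTo (h : IsoTo D D') (H : Cls D) : Cls D' := by
  obtain ⟨e, rfl⟩ := h
  refine ⟨⟨⟨?_, ?_⟩, ?_, ?_⟩, fun N hN hs => ?_⟩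
  · rintro _ ⟨x, hx, rfl⟩
    rw [MulEquiv.orderOf_eq]
    exact H.cl.1.1 x hx
  · rintro _ ⟨x, hx, rfl⟩ _ ⟨y, hy, rfl⟩
    rcases H.cl.1.2 x hx y hy with h | h
    · left; rw [← map_mul, ← map_pow, h, map_one]
    · right; rw [← map_mul, ← map_pow, h, map_one]
  · obtain ⟨a, ha, hDa⟩ := H.cl.2.1
    refine ⟨e a, ⟨a, ha, rfl⟩, Set.ext fun x => ⟨?_, fun hx => ?_⟩⟩
    · rintro ⟨b, hb, rfl⟩
      rw [hDa] at hb
      obtain ⟨k, rfl⟩ := isConj_iff.1 hb
      exact isConj_iff.2 ⟨e k, by simp⟩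
    · obtain ⟨k, rfl⟩ := isConj_iff.1 hx
      refine ⟨e.symm k * a * (e.symm k)⁻¹, ?_, by simp⟩
      rw [hDa]
      exact isConj_iff.2 ⟨e.symm k, rfl⟩
  · have h := congrArg (Subgroup.map e.toMonoidHom) H.cl.2.2
    rw [MonoidHom.map_closure, Subgroup.map_top_of_surjective _ e.surjective] at h
    exact h
  · have h1 : N.comap e.toMonoidHom = ⊥ := H.sol _ inferInstance
      (Group.isSolvable_of_isSolvable_injective
        (f := e.toMonoidHom.subgroupComap N)
        fun a b hab => Subtype.ext (e.injective (congrArg Subtype.val hab)))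
    have hse : Function.Surjective e.toMonoidHom := e.surjective
    rw [← Subgroup.map_comap_eq_self_of_surjective hse N, h1, Subgroup.map_bot]

end Transfer

end Cfsg.Agent.H7Fischer
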