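import Cfsg.Agent.H7Fischer.Sums
import Mathlib.GroupTheory.Perm.Sign

/-!
Classes with the triangle property in which neither two nor three commuting members have a member
as sum: a largest star of pairwise non-commuting members gives a symmetric group.
-/

set_option autoImplicit false
set_option linter.unusedSectionVars false

namespace Cfsg.Agent.H7Fischer

open Cfsg
open H76.LocallyS3 (nb cj cj_cj cj_injective commute_cj_iff)
open H80.TTQuad (Cls cj_one cj_inv_cj cj_cj_inv cj_eq_of_commute commute_of_cj_eq nb_symm)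

universe u

variable {G : Type u} [Group G] {D : Set G}

/-- Pairwise non-commuting members, none of which is the third member of two others. -/
def Star {k : ℕ} (a : Fin k → ↥D) : Prop :=
  (∀ i j, i ≠ j → form D (vec (a i)) (vec (a j)) = 1) ∧
    ∀ i j l, i ≠ j → vec (a i) + vec (a j) ≠ vec (a l)

/-- The points of a star. -/
noncomputable def pt {k : ℕ} (a : Fin k → ↥D) : Fin (k + 1) → space D :=
  Fin.cons 0 fun i => vec (a i)

theorem pt_zero {k : ℕ} (a : Fin k → ↥D) : pt a 0 = 0 := rfl

theorem pt_succ {k : ℕ} (a : Fin k → ↥D) (i : Fin k) : pt a i.succ = vec (a i) := by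
  simp [pt]

/-- Kronecker symbol with values in the field with two elements. -/
def dl {α : Type*} [DecidableEq α] (i j : α) : ZMod 2 := if i = j then 1 else 0

theorem dl_self {α : Type*} [DecidableEq α] (i : α) : dl i i = 1 := if_pos rfl

theorem dl_of_ne {α : Type*} [DecidableEq α] {i j : α} (h : i ≠ j) : dl i j = 0 := if_neg h

theorem eq_of_dl {α : Type*} [DecidableEq α] {i j : α} (h : dl i j ≠ 0) : i = j :=
  by_contra fun e => h (dl_of_ne e)

section Star

variable {k : ℕ} {a : Fin k → ↥D} (S : Star a)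
include S

theorem form_star (i j : Fin k) : form D (vec (a i)) (vec (a j)) = 1 + dl i j := by
  by_cases h : i = j
  · subst h; rw [form_isAlt, dl_self]; rfl
  · rw [S.1 i j h, dl_of_ne h, add_zero]

theorem form_pt (i j : Fin (k + 1)) :
    form D (pt a i) (pt a j) = 1 + dl i j + dl i 0 + dl j 0 := by
  refine Fin.cases ?_ (fun i => ?_) i <;> refine Fin.cases ?_ (fun j => ?_) j
  · simp [pt_zero, dl_self]; rfl
  · simp [pt_zero, dl_self, dl_of_ne (Fin.succ_ne_zero j).symm,
      dl_of_ne (Fin.succ_ne_zero j)]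
    rfl
  · simp [pt_zero, dl_self, dl_of_ne (Fin.succ_ne_zero i)]; rfl
  · rw [pt_succ, pt_succ, form_star S, dl_of_ne (Fin.succ_ne_zero i),
      dl_of_ne (Fin.succ_ne_zero j), add_zero, add_zero]
    simp [dl]

theorem form_pairs (i j l m : Fin (k + 1)) :
    form D (pt a i + pt a j) (pt a l + pt a m) = dl i l + dl i m + dl j l + dl j m := by
  simp only [map_add, LinearMap.add_apply, form_pt S]
  generalize dl i l = x₁
  generalize dl i m = x₂
  generalize dl j l = x₃
  generalize dl j m = x₄
  generalize dl i 0 = y₁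
  generalize dl j 0 = y₂
  generalize dl l 0 = y₃
  generalize dl m 0 = y₄
  revert x₁ x₂ x₃ x₄ y₁ y₂ y₃ y₄
  decide

theorem pair_unique (hk : 4 ≤ k) {i j l m : Fin (k + 1)} (hij : i ≠ j)
    (h : pt a i + pt a j = pt a l + pt a m) : (l = i ∧ m = j) ∨ (l = j ∧ m = i) := by
  obtain ⟨b, hb⟩ : ∃ b : Fin (k + 1), b ∉ ({i, j, l, m} : Finset (Fin (k + 1))) := by
    by_contra hall
    push Not at hall
    have h1 := Finset.card_le_card (fun x _ => hall x : Finset.univ ⊆ ({i, j, l, m} : Finset _))
    rw [Finset.card_univ, Fintype.card_fin] at h1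
    have h2 : ({i, j, l, m} : Finset (Fin (k + 1))).card ≤ 4 :=
      (Finset.card_insert_le _ _).trans (Nat.succ_le_succ Finset.card_le_three)
    omega
  simp only [Finset.mem_insert, Finset.mem_singleton, not_or] at hb
  obtain ⟨bi, bj, bl, bm⟩ := hb
  have key : ∀ x, dl i x + dl j x = dl l x + dl m x := fun x => by
    have h1 := congrArg (fun v => form D v (pt a x + pt a b)) h
    simp only [form_pairs S, dl_of_ne (Ne.symm bi), dl_of_ne (Ne.symm bj), dl_of_ne (Ne.symm bl),
      dl_of_ne (Ne.symm bm), add_zero] at h1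
    exact h1
  have hi := key i
  have hj := key j
  rw [dl_self, dl_of_ne hij.symm, add_zero] at hi
  rw [dl_of_ne hij, dl_self, zero_add] at hj
  by_cases hli : l = i
  · subst hli
    refine Or.inl ⟨rfl, ?_⟩
    rw [dl_of_ne hij, zero_add] at hj
    exact eq_of_dl (by rw [← hj]; exact one_ne_zero)
  · rw [dl_of_ne hli, zero_add] at hi
    have hmi : m = i := eq_of_dl (by rw [← hi]; exact one_ne_zero)
    subst hmi
    rw [dl_of_ne hij, add_zero] at hj
    exact Or.inr ⟨eq_of_dl (by rw [← hj]; exact one_ne_zero), rfl⟩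

variable [Finite G]

theorem exists_pair_vec (H : Cls D) (hT : Triangle D) {i j : Fin (k + 1)} (h : i ≠ j) :
    ∃ d, vec d = pt a i + pt a j := by
  revert h
  refine Fin.cases ?_ (fun i => ?_) i <;> refine Fin.cases ?_ (fun j => ?_) j <;> intro h
  · exact absurd rfl h
  · exact ⟨a j, by rw [pt_zero, pt_succ, zero_add]⟩
  · exact ⟨a i, by rw [pt_zero, pt_succ, add_zero]⟩
  · rw [pt_succ, pt_succ]
    exact exists_vec_add H hT (S.1 i j fun e => h (congrArg Fin.succ e))

theorem star_extend {s : ↥D} (hs : ∀ i, form D (vec s) (vec (a i)) = 1)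
    (hout : ∀ i j : Fin (k + 1), vec s ≠ pt a i + pt a j) :
    Star (Fin.snoc a s) := by
  refine ⟨fun i j => ?_, fun i j l => ?_⟩
  · refine Fin.lastCases ?_ (fun i => ?_) i <;> refine Fin.lastCases ?_ (fun j => ?_) j <;>
      intro h <;> simp only [Fin.snoc_last, Fin.snoc_castSucc]
    · exact absurd rfl h
    · exact hs j
    · rw [form_comm]; exact hs i
    · exact S.1 i j fun e => h (congrArg Fin.castSucc e)
  · refine Fin.lastCases ?_ (fun i => ?_) i <;> refine Fin.lastCases ?_ (fun j => ?_) j <;>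
      refine Fin.lastCases ?_ (fun l => ?_) l <;> intro h e <;>
      simp only [Fin.snoc_last, Fin.snoc_castSucc] at e
    · exact h rfl
    · exact h rfl
    · have h1 := hs j
      rw [add_eq_left.1 e, map_zero] at h1
      exact zero_ne_one h1
    · refine hout j.succ l.succ ?_
      rw [pt_succ, pt_succ, ← e, add_comm (vec (a j)) _, add_assoc, add_comm (vec (a j)),
        space_add_self, add_zero]
    · have h1 := hs i
      rw [add_eq_right.1 e, map_zero] at h1
      exact zero_ne_one h1
    · refine hout i.succ l.succ ?_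
      rw [pt_succ, pt_succ, ← e, ← add_assoc, space_add_self, zero_add]
    · refine hout i.succ j.succ ?_
      rw [pt_succ, pt_succ, e]
    · exact S.2 i j l (fun q => h (congrArg Fin.castSucc q)) e

end Star

variable [Finite G]

theorem star_bound (_H : Cls D) {k : ℕ} {a : Fin k → ↥D} (S : Star a) : k ≤ Nat.card ↥D := by
  have hinj : Function.Injective a := fun i j e => by
    by_contra h
    have h1 := S.1 i j h
    rw [e, form_isAlt] at h1
    exact zero_ne_one h1
  have := Nat.card_le_card_of_injective a hinj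
  rwa [Nat.card_fin] at this

theorem exists_star (H : Cls D) : ∃ a : Fin 2 → ↥D, Star a := by
  obtain ⟨x, hx⟩ := H.nonempty
  obtain ⟨f, hf, hxf⟩ := H.exists_noncommute hx
  have h0 : form D (vec ⟨x, hx⟩) (vec ⟨f, hf⟩) = 1 := form_vec_one.2 hxf
  have h1 : form D (vec ⟨f, hf⟩) (vec ⟨x, hx⟩) = 1 := by rw [form_comm, h0]
  refine ⟨![⟨x, hx⟩, ⟨f, hf⟩], fun i j h => ?_, fun i j l h e => ?_⟩
  · fin_cases i <;> fin_cases j <;> simp at h ⊢
    · exact h0
    · exact h1
  · fin_cases i <;> fin_cases j <;> fin_cases l <;> simp at h e <;>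
      exact vec_ne_zero H _ e

section Maximal

variable (H : Cls D) (hT : Triangle D) (hN : NoSum D) (hG : ¬ HasGood D)
include H hT hN hG

/-- A member outside a star commutes with the star or enlarges it. -/
theorem outside_cases {k : ℕ} {a : Fin k → ↥D} (S : Star a) {s : ↥D}
    (hout : ∀ i j : Fin (k + 1), vec s ≠ pt a i + pt a j) :
    (∀ i, form D (vec s) (vec (a i)) = 0) ∨ ∃ b : Fin (k + 1) → ↥D, Star b := by
  by_cases h0 : ∀ i, form D (vec s) (vec (a i)) = 0
  · exact Or.inl h0
  right
  push Not at h0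
  obtain ⟨i, hi⟩ := h0
  have hi1 := (z2_cases _).resolve_left hi
  by_cases hall : ∀ j, form D (vec s) (vec (a j)) = 1
  · exact ⟨_, star_extend S hall hout⟩
  push Not at hall
  obtain ⟨j, hj⟩ := hall
  have hj0 := (z2_cases _).resolve_right hj
  by_cases hone : ∀ i', i' ≠ i → form D (vec s) (vec (a i')) = 0
  · -- replace `s` by the third member of `s` and `a i`
    obtain ⟨c, hc⟩ := exists_vec_add H hT hi1
    refine ⟨_, star_extend S (s := c) (fun l => ?_) fun l m e => ?_⟩
    · rw [hc, LinearMap.map_add₂]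
      by_cases hl : l = i
      · subst hl; rw [hi1, form_isAlt, add_zero]
      · rw [hone l hl, S.1 i l (Ne.symm hl), zero_add]
    · rw [hc] at e
      have hs : vec s = vec (a i) + (pt a l + pt a m) := by
        rw [← e, add_comm (vec s) (vec (a i)), ← add_assoc, space_add_self, zero_add]
      have hf := form_pairs S l m i.succ 0
      rw [pt_succ, pt_zero, add_zero] at hf
      have h1 : form D (vec s) (vec (a i)) = form D (pt a l + pt a m) (vec (a i)) := by
        rw [hs, LinearMap.map_add₂, form_isAlt, zero_add]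
      rw [hi1, hf] at h1
      -- one of the two ends is `0` or `i`, so `s` is in the star
      by_cases q1 : l = i.succ
      · refine hout m 0 ?_
        rw [hs, q1, pt_succ, ← add_assoc, space_add_self, zero_add, pt_zero, add_zero]
      by_cases q2 : m = i.succ
      · refine hout l 0 ?_
        rw [hs, q2, pt_succ, add_comm (pt a l), ← add_assoc, space_add_self, zero_add, pt_zero,
          add_zero]
      by_cases q3 : l = 0
      · refine hout i.succ m ?_
        rw [hs, q3, pt_zero, zero_add, pt_succ]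
      by_cases q4 : m = 0
      · refine hout i.succ l ?_
        rw [hs, q4, pt_zero, add_zero, pt_succ]
      rw [dl_of_ne q1, dl_of_ne q2, dl_of_ne q3, dl_of_ne q4] at h1
      exact zero_ne_one (h1.symm : (0 : ZMod 2) + 0 + 0 + 0 = 1)
  · -- a good triple
    exfalso
    push Not at hone
    obtain ⟨i', hii, hi'⟩ := hone
    have hi'1 := (z2_cases _).resolve_left hi'
    have hij : i ≠ j := fun e => by rw [e, hj0] at hi1; exact zero_ne_one hi1
    have hi'j : i' ≠ j := fun e => by rw [e, hj0] at hi'1; exact zero_ne_one hi'1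
    obtain ⟨p, hp⟩ := exists_vec_add H hT (S.1 i i' (Ne.symm hii))
    have f1 : form D (vec s) (vec p) = 0 := by rw [hp, map_add, hi1, hi'1]; rfl
    have f2 : form D (vec p) (vec (a j)) = 0 := by
      rw [hp, LinearMap.map_add₂, S.1 i j hij, S.1 i' j hi'j]; rfl
    obtain ⟨r₁, hr₁⟩ := exists_vec_add H hT hi1
    obtain ⟨r₂, hr₂⟩ := exists_vec_add H hT (S.1 i' j hi'j)
    have f3 : form D (vec r₁) (vec r₂) = 1 := by
      rw [hr₁, hr₂, LinearMap.map_add₂, map_add, map_add, hi'1, hj0, S.1 i i' (Ne.symm hii),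
        S.1 i j hij]
      rfl
    obtain ⟨z, hz⟩ := exists_vec_add H hT f3
    refine hG ⟨s, p, a j, fun e => hout i.succ i'.succ (by rw [pt_succ, pt_succ, ← hp, e]),
      fun e => hout j.succ 0 (by rw [pt_succ, pt_zero, add_zero, e]),
      fun e => S.2 i i' j (Ne.symm hii) (by rw [← hp, e]), form_vec_zero.1 f1,
      form_vec_zero.1 hj0, form_vec_zero.1 f2, z, ?_⟩
    rw [hz, hr₁, hr₂, hp]
    abel

/-- The class is the class of transpositions. -/
theorem isSym_of_noGood : IsSym D := by
  classical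
  obtain ⟨a₂, S₂⟩ := exists_star H
  let P : ℕ → Prop := fun k => ∃ a : Fin k → ↥D, Star a
  set k := Nat.findGreatest P (Nat.card ↥D) with hk
  have hP : P k := Nat.findGreatest_spec (P := P) (star_bound H S₂) ⟨a₂, S₂⟩
  have hk2 : 2 ≤ k := Nat.le_findGreatest (star_bound H S₂) ⟨a₂, S₂⟩
  have hmax : ¬ ∃ b : Fin (k + 1) → ↥D, Star b := fun ⟨b, hb⟩ =>
    Nat.findGreatest_is_greatest (P := P) (n := Nat.card ↥D) (k := k + 1) (Nat.lt_succ_self _)
      (star_bound H hb) ⟨b, hb⟩
  obtain ⟨a, S⟩ := hP
  -- every member is in the star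
  let InS : ↥D → Prop := fun s => ∃ i j : Fin (k + 1), vec s = pt a i + pt a j
  have hin : ∀ i, InS (a i) := fun i => ⟨i.succ, 0, by rw [pt_succ, pt_zero, add_zero]⟩
  have hclosed : ∀ p q : ↥D, InS p → ¬ Commute (p : G) q → InS q := by
    rintro p q ⟨i, j, hp⟩ hn
    by_contra hq
    have hq' : ∀ i j : Fin (k + 1), vec q ≠ pt a i + pt a j := fun i j e => hq ⟨i, j, e⟩
    rcases outside_cases H hT hN hG S hq' with h | h
    · have hz : ∀ l : Fin (k + 1), form D (vec q) (pt a l) = 0 := fun l => by
        refine Fin.cases ?_ (fun l => ?_) l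
        · rw [pt_zero, map_zero]
        · rw [pt_succ]; exact h l
      have := form_vec_one.2 hn
      rw [form_comm, hp, map_add, hz, hz] at this
      exact zero_ne_one (this : (0 : ZMod 2) + 0 = 1)
    · exact hmax h
  have hall : ∀ q : ↥D, InS q := by
    intro q
    have hc := H44.tt_noncommute_connected H.cl (a ⟨0, by omega⟩).2 q.2
    suffices key : ∀ x, Relation.ReflTransGen (fun p q => p ∈ D ∧ q ∈ D ∧ ¬ Commute p q)
        (a ⟨0, by omega⟩ : G) x → ∀ hx : x ∈ D, InS ⟨x, hx⟩ from key _ hc q.2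
    intro x hx
    induction hx with
    | refl => intro hx; exact hin _
    | tail _ hab ih => intro hx; exact hclosed ⟨_, hab.1⟩ ⟨_, hx⟩ (ih hab.1) hab.2.2
  have hne : ∀ {q : ↥D} {i j : Fin (k + 1)}, vec q = pt a i + pt a j → i ≠ j := fun {q i j} h e => by
    rw [e, space_add_self] at h
    exact vec_ne_zero H q h
  -- the star has at least four members
  have hk4 : 4 ≤ k := by
    by_contra hlt
    -- then two commuting members are twins or absent
    obtain ⟨x, hx⟩ := H.nonempty
    obtain ⟨y, hy⟩ := H.nb_nonempty hx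
    obtain ⟨i, j, hp⟩ := hall ⟨x, hx⟩
    obtain ⟨l, m, hq⟩ := hall ⟨y, hy.1⟩
    have hij := hne hp
    have hlm := hne hq
    have hxy : form D (pt a i + pt a j) (pt a l + pt a m) = 0 := by
      rw [← hp, ← hq]; exact form_vec_zero.2 hy.2.2
    have hdis : i ≠ l ∧ i ≠ m ∧ j ≠ l ∧ j ≠ m := by
      rw [form_pairs S] at hxy
      have hne' : ¬ ((i = l ∧ j = m) ∨ (i = m ∧ j = l)) := by
        rintro (⟨rfl, rfl⟩ | ⟨rfl, rfl⟩)
        · exact hy.2.1 (congrArg Subtype.val (vec_injective H (hq.trans hp.symm)))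
        · exact hy.2.1 (congrArg Subtype.val (vec_injective H
            (hq.trans ((add_comm _ _).trans hp.symm))))
      by_cases q1 : i = l <;> by_cases q2 : i = m <;> by_cases q3 : j = l <;> by_cases q4 : j = m <;>
        simp_all [dl]
    obtain ⟨d1, d2, d3, d4⟩ := hdis
    have h4 : ({i, j, l, m} : Finset (Fin (k + 1))).card = 4 := by
      rw [Finset.card_insert_of_notMem, Finset.card_insert_of_notMem, Finset.card_pair hlm] <;>
        simp [*]
    have hk3 : k = 3 := by
      have := Finset.card_le_univ ({i, j, l, m} : Finset (Fin (k + 1)))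
      rw [h4, Fintype.card_fin] at this
      omega
    have huniv : ∀ x : Fin (k + 1), x = i ∨ x = j ∨ x = l ∨ x = m := fun x => by
      have h5 : ({i, j, l, m} : Finset (Fin (k + 1))) = Finset.univ :=
        Finset.eq_univ_of_card _ (by rw [h4, Fintype.card_fin]; omega)
      have := h5.symm ▸ Finset.mem_univ x
      simpa using this
    -- the two commute with the same members
    have hsame : vec (⟨x, hx⟩ : ↥D) = vec ⟨y, hy.1⟩ := by
      refine space_eq_of_add_eq_zero (eq_zero_of_form fun b => ?_)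
      obtain ⟨p, q, hb⟩ := hall b
      have hpq := hne hb
      rw [hp, hq, hb, LinearMap.map_add₂, form_pairs S, form_pairs S]
      rcases huniv p with rfl | rfl | rfl | rfl <;> rcases huniv q with rfl | rfl | rfl | rfl <;>
        first
          | exact absurd rfl hpq
          | simp [dl, hij, hij.symm, hlm, hlm.symm, d1, d2, d3, d4, d1.symm, d2.symm, d3.symm,
              d4.symm, z2_add_self]
    exact hy.2.1 (congrArg Subtype.val (vec_injective H hsame)).symm
  -- the isomorphism
  choose I J hIJ using hall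
  have hI : ∀ q, I q ≠ J q := fun q => hne (hIJ q)
  let f : ↥D → ↥(swaps (k + 1)) := fun q => ⟨Equiv.swap (I q) (J q), _, _, hI q, rfl⟩
  have hval : ∀ (q : ↥D) (i j : Fin (k + 1)), vec q = pt a i + pt a j →
      Equiv.swap (I q) (J q) = Equiv.swap i j := by
    intro q i j h
    rcases pair_unique S hk4 (hI q) ((hIJ q).symm.trans h) with ⟨e1, e2⟩ | ⟨e1, e2⟩
    · rw [e1, e2]
    · rw [e1, e2, Equiv.swap_comm]
  have hbij : Function.Bijective f := by
    refine ⟨fun p q h => vec_injective H ?_, fun g => ?_⟩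
    · have h' : Equiv.swap (I p) (J p) = Equiv.swap (I q) (J q) := congrArg Subtype.val h
      have e1 : Equiv.swap (I q) (J q) (I p) = J p := by rw [← h', Equiv.swap_apply_left]
      rw [hIJ p, hIJ q]
      rw [Equiv.swap_apply_def] at e1
      split_ifs at e1 with q1 q2
      · rw [q1, e1]
      · rw [q2, e1, add_comm]
      · exact absurd e1 (hI p)
    · obtain ⟨i, j, hij, hg⟩ := g.2
      obtain ⟨q, hq⟩ := exists_pair_vec S H hT hij
      exact ⟨q, Subtype.ext ((hval q i j hq).trans hg.symm)⟩
  refine ⟨k + 1, by omega, isoTo_of_equivariant H.cl.2.2 Equiv.Perm.closure_isSwap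
    (fun g hg => H.eq_one_of_fix hg) ?_ (fun x hx => H.sq hx) ?_ (fun x _ y hy => H.mem_cj x hy)
    (Equiv.ofBijective f hbij) fun p q => ?_⟩
  · intro g hg
    refine Equiv.ext fun x => ?_
    by_contra hx
    obtain ⟨y, hy1, hy2⟩ : ∃ y, y ≠ x ∧ y ≠ g x := by
      by_contra hall
      push Not at hall
      have h1 := Finset.card_le_card (fun y _ => by
        by_cases e : y = x
        · simp [e]
        · simp [hall y e] : Finset.univ ⊆ ({x, g x} : Finset (Fin (k + 1))))
      rw [Finset.card_univ, Fintype.card_fin] at h1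
      have := h1.trans Finset.card_le_two
      omega
    have h := hg (Equiv.swap x y) ⟨x, y, hy1.symm, rfl⟩
    rw [cj, ← Equiv.swap_apply_apply] at h
    have h' := congrArg (fun σ : Equiv.Perm (Fin (k + 1)) => σ x) h
    simp only [Equiv.swap_apply_left] at h'
    rw [Equiv.swap_apply_def] at h'
    split_ifs at h' with q1 q2
    · exact hx q1.symm
    · exact hy2 h'.symm
    · exact hy1 h'.symm
  · intro x hx
    obtain ⟨i, j, -, rfl⟩ := hx
    exact Equiv.swap_mul_self i j
  · show Equiv.swap (I _) (J _) = cj (Equiv.swap (I p) (J p)) (Equiv.swap (I q) (J q))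
    show _ = (Equiv.swap (I p) (J p)) * Equiv.swap (I q) (J q) * (Equiv.swap (I p) (J p))⁻¹
    rw [← Equiv.swap_apply_apply]
    refine hval (mv H (p : G) q) _ _ ?_
    rw [vec_mv H hT, hIJ p, hIJ q, form_pairs S]
    set i := I p
    set j := J p
    set l := I q
    set m := J q
    have hij : i ≠ j := hI p
    have hlm : l ≠ m := hI q
    have hsw : ∀ x, pt a (Equiv.swap i j x) = pt a x + (dl x i + dl x j) • (pt a i + pt a j) := by
      intro x
      by_cases q1 : x = i
      · subst q1
        rw [Equiv.swap_apply_left, dl_self, dl_of_ne hij, add_zero, one_smul, ← add_assoc,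
          space_add_self, zero_add]
      by_cases q2 : x = j
      · subst q2
        rw [Equiv.swap_apply_right, dl_self, dl_of_ne q1, zero_add, one_smul,
          add_comm (pt a i), ← add_assoc, space_add_self, zero_add]
      rw [Equiv.swap_apply_of_ne_of_ne q1 q2, dl_of_ne q1, dl_of_ne q2, add_zero, zero_smul,
        add_zero]
    rw [hsw, hsw, ← add_add_add_comm, ← add_smul]
    congr 1
    congr 1
    ring

end Maximal

/-- Classes with the triangle property. -/
theorem triangle_classify (H : Cls D) (hT : Triangle D) :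
    (AllSum D ∧ IsSymp D) ∨
      NoSum D ∧ ((HasGood D ∧ IsOrthTwo D) ∨ (¬ HasGood D ∧ IsSym D)) := by
  classical
  rcases allSum_or_noSum H with h | h
  · exact Or.inl ⟨h, isSymp_of_allSum H hT h⟩
  refine Or.inr ⟨h, ?_⟩
  by_cases hg : HasGood D
  · exact Or.inl ⟨hg, isOrthTwo_of_good H hT h hg⟩
  · exact Or.inr ⟨hg, isSym_of_noGood H hT h hg⟩

/-- With central local cores: an orthogonal class or transpositions of degree at least seven. -/
theorem triangle_central (H : Cls D) (hT : Triangle D) (hC : Central D) :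
    IsOrthTwo D ∨ ∃ n, 7 ≤ n ∧ IsoTo D (swaps n) := by
  rcases triangle_classify H hT with ⟨hA, -⟩ | ⟨hN, ⟨-, hO⟩ | ⟨hg, n, hn, hI⟩⟩
  · -- twins at a member
    exfalso
    obtain ⟨x, hx⟩ := H.nonempty
    obtain ⟨y, hy⟩ := H.nb_nonempty hx
    obtain ⟨c, hc⟩ := hA ⟨x, hx⟩ ⟨y, hy.1⟩ (fun e => hy.2.1 (congrArg Subtype.val e).symm) hy.2.2
    have hcx : (c : G) ∈ nb D x := by
      refine ⟨c.2, fun e => ?_, ?_⟩
      · have hcx' : c = ⟨x, hx⟩ := Subtype.ext e
        rw [hcx', left_eq_add] at hc
        exact vec_ne_zero H _ hc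
      · refine (form_vec_zero (a := ⟨x, hx⟩) (b := c)).1 ?_
        rw [hc, map_add, form_isAlt, form_vec_zero.2 hy.2.2, add_zero]
    have := (noTwin_iff H hx).1 (hC x hx).1 y hy c hcx fun z hz => by
      have h1 : form D (vec c) (vec ⟨z, hz.1⟩) = form D (vec ⟨y, hy.1⟩) (vec ⟨z, hz.1⟩) := by
        rw [hc, LinearMap.map_add₂, (form_vec_zero (a := ⟨x, hx⟩) (b := ⟨z, hz.1⟩)).2 hz.2.2,
          zero_add]
      rw [← form_vec_zero (a := c) (b := ⟨z, hz.1⟩), h1, form_vec_zero]
    have hcy : c = ⟨y, hy.1⟩ := Subtype.ext this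
    rw [hcy, right_eq_add] at hc
    exact vec_ne_zero H _ hc
  · exact Or.inl hO
  refine Or.inr ⟨n, ?_, hI⟩
  obtain ⟨e, he⟩ := hI
  have mem : ∀ {i j : Fin n}, i ≠ j → e.symm (Equiv.swap i j) ∈ D := fun {i j} h => by
    have : Equiv.swap i j ∈ e '' D := he.symm ▸ (⟨i, j, h, rfl⟩ : Equiv.swap i j ∈ swaps n)
    obtain ⟨d, hd, hde⟩ := this
    rwa [← hde, e.symm_apply_apply]
  by_contra hlt
  obtain rfl | rfl : n = 5 ∨ n = 6 := by omega
  · -- two members at a transposition with the same other neighbours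
    have hd := mem (show (3 : Fin 5) ≠ 4 by decide)
    have hy1 := mem (show (0 : Fin 5) ≠ 1 by decide)
    have hy2 := mem (show (0 : Fin 5) ≠ 2 by decide)
    have hc1 : Commute (e.symm (Equiv.swap (3 : Fin 5) 4)) (e.symm (Equiv.swap 0 1)) :=
      (commute_map_iff' e.symm).2 (by show _ = _; decide)
    have hc2 : Commute (e.symm (Equiv.swap (3 : Fin 5) 4)) (e.symm (Equiv.swap 0 2)) :=
      (commute_map_iff' e.symm).2 (by show _ = _; decide)
    have := (noSameNb_iff H hd).1 (hC _ hd).2 _ ⟨hy1, ?_, hc1⟩ _ ⟨hy2, ?_, hc2⟩ fun z hz => ?_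
    · exact absurd (e.symm.injective this) (by decide)
    · exact fun q => absurd (e.symm.injective q) (by decide)
    · exact fun q => absurd (e.symm.injective q) (by decide)
    · obtain ⟨hzD, hzd, hzc⟩ := hz
      obtain ⟨i, j, hij, hzij⟩ : e z ∈ swaps 5 := he ▸ ⟨z, hzD, rfl⟩
      have ez : z = e.symm (Equiv.swap i j) := by rw [← hzij, e.symm_apply_apply]
      subst ez
      simp only [ne_eq, e.symm.injective.eq_iff, commute_map_iff']
      have hzd' : ¬ Equiv.swap i j = Equiv.swap 3 4 := fun q => hzd (by rw [q])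
      have hzc' := (commute_map_iff' e.symm).1 hzc
      revert hij hzd' hzc'
      clear hzij hzD hzd hzc
      simp only [Commute, SemiconjBy]
      revert i j
      decide
  · -- three commuting members with product in the class
    have h1 := mem (show (0 : Fin 6) ≠ 1 by decide)
    have h2 := mem (show (2 : Fin 6) ≠ 3 by decide)
    have h3 := mem (show (4 : Fin 6) ≠ 5 by decide)
    have hc : Commute (e.symm (Equiv.swap (0 : Fin 6) 1)) (e.symm (Equiv.swap 2 3)) :=
      (commute_map_iff' e.symm).2 (by show _ = _; decide)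
    refine hN ⟨_, h1⟩ ⟨_, h2⟩ (fun q => absurd (e.symm.injective (congrArg Subtype.val q))
      (by decide)) hc ⟨_, h3⟩ (Subtype.ext (funext fun z => ?_))
    obtain ⟨i, j, hij, hzij⟩ : e z ∈ swaps 6 := he ▸ ⟨z, z.2, rfl⟩
    have ez : (z : G) = e.symm (Equiv.swap i j) := by rw [← hzij, e.symm_apply_apply]
    have key : ∀ i j : Fin 6, i ≠ j →
        ((Equiv.swap i j * Equiv.swap 4 5 = Equiv.swap 4 5 * Equiv.swap i j) ↔
          ((Equiv.swap i j * Equiv.swap 0 1 = Equiv.swap 0 1 * Equiv.swap i j) ↔
            (Equiv.swap i j * Equiv.swap 2 3 = Equiv.swap 2 3 * Equiv.swap i j))) := by decide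
    have k1 : Commute (Equiv.swap i j) (Equiv.swap (4 : Fin 6) 5) ↔
        (Commute (Equiv.swap i j) (Equiv.swap 0 1) ↔ Commute (Equiv.swap i j) (Equiv.swap 2 3)) :=
      key i j hij
    classical
    show pat _ z = pat _ z + pat _ z
    simp only [pat, ez, commute_map_iff']
    by_cases q1 : Commute (Equiv.swap i j) (Equiv.swap (0 : Fin 6) 1) <;>
      by_cases q2 : Commute (Equiv.swap i j) (Equiv.swap (2 : Fin 6) 3) <;>
        simp [k1, q1, q2, z2_add_self]

end Cfsg.Agent.H7Fischer
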