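import Cfsg.Agent.H7Fischer.Main
import Cfsg.Agent.H80.TTFischer.Simple

/-!
Fischer's classification in the form of primitive classes of width at least two.
-/

set_option autoImplicit false
open scoped MatrixGroups

namespace Cfsg.Agent.H7Fischer

open Cfsg

universe u

theorem primitive_central (h23 : M23Step.{u}) {G : Type u} [Group G] [Finite G] {D : Set G}
    (hD : Cfsg.IsThreeTranspositionGroup D) (hprim : Cfsg.IsPrimitiveUnderConj D)
    (hZ : Subgroup.center G = ⊥) (d : G) (hd : d ∈ D) (hw : ∃ b ∈ D, b ≠ d ∧ Commute d b)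
    (h3 : Cfsg.pCore 3 ↥(Subgroup.closure {y : G | y ∈ D ∧ y ≠ d ∧ Commute d y}) ≤
      Subgroup.center ↥(Subgroup.closure {y : G | y ∈ D ∧ y ≠ d ∧ Commute d y}))
    (h2 : Cfsg.pCore 2 ↥(Subgroup.closure {y : G | y ∈ D ∧ y ≠ d ∧ Commute d y}) ≤
      Subgroup.center ↥(Subgroup.closure {y : G | y ∈ D ∧ y ≠ d ∧ Commute d y})) :
    (∃ n : ℕ, 7 ≤ n ∧ ∃ e : G ≃* Equiv.Perm (Fin n), e '' D = {σ : Equiv.Perm (Fin n) | σ.IsSwap}) ∨
      IsOrthTwo D ∨ (∃ (n : ℕ) (μ c : ZMod 3), 5 ≤ n ∧ IsOrthThree D n μ c) ∨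
      (Cfsg.IsOfTypeM22 G D ∨ Cfsg.IsOfTypeM23 G D ∨ Cfsg.IsOfTypeM24 G D) := by
  obtain ⟨b, hb, hbd, hdb⟩ := hw
  have hw' : ∃ a ∈ D, ∃ b ∈ D, a ≠ b ∧ Commute a b := ⟨d, hd, b, hb, hbd.symm, hdb⟩
  have H := cls_of_primitive hD hprim hZ hw'
  have hC : Central D := central_of_at H hd ⟨h2, h3⟩
  have hconn : Conn D := Components.connected_of_primitive H.cl hprim hw'
  rcases classification h23 H hC hconn with h | ⟨n, hn, e, he⟩ | h | h | h | h
  · exact Or.inr (Or.inl h)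
  · exact Or.inl ⟨n, hn, e, he⟩
  · exact Or.inr (Or.inr (Or.inl h))
  · exact Or.inr (Or.inr (Or.inr (Or.inl h.1)))
  · exact Or.inr (Or.inr (Or.inr (Or.inr (Or.inl h.1))))
  · exact Or.inr (Or.inr (Or.inr (Or.inr (Or.inr h))))

/-- The classification in the form used for the simple groups. -/
theorem mainClass (h23 : M23Step.{u}) {G : Type u} [Group G] [Finite G] (D : Set G) :
    H80.TTFischer.MainClass D := by
  intro H hC hconn
  rcases classification h23 H hC hconn with h | ⟨n, hn, h⟩ | h | h | h | h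
  · exact Or.inr (Or.inl h)
  · exact Or.inl ⟨n, by omega, h⟩
  · exact Or.inr (Or.inr (Or.inl h))
  · exact Or.inr (Or.inr (Or.inr (Or.inl h.1)))
  · exact Or.inr (Or.inr (Or.inr (Or.inr (Or.inl h.1))))
  · exact Or.inr (Or.inr (Or.inr (Or.inr (Or.inr h))))

end Cfsg.Agent.H7Fischer
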