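import Cfsg.Agent.H7Fischer.Models
import Cfsg.Agent.Orthogonal.StdForms

/-!
Classes with the triangle property in which no two commuting members have a member as sum: if some
three pairwise commuting members have a member as sum, all do, and the members are the non-singular
vectors of a quadratic form.
-/

set_option autoImplicit false
set_option linter.unusedSectionVars false

namespace Cfsg.Agent.H7Fischer

open Cfsg
open H76.LocallyS3 (nb cj cj_cj cj_injective commute_cj_iff)
open H80.TTQuad (Cls cj_one cj_inv_cj cj_cj_inv cj_eq_of_commute commute_of_cj_eq nb_symm)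
open H93 (nbSub Residue)
open QuadraticMap Module

universe u

variable {G : Type u} [Group G] {D : Set G}

/-- Any two different commuting members have a member as sum. -/
def AllSum (D : Set G) : Prop :=
  ∀ a b : ↥D, a ≠ b → Commute (a : G) b → ∃ c, vec c = vec a + vec b

/-- No two different commuting members have a member as sum. -/
def NoSum (D : Set G) : Prop :=
  ∀ a b : ↥D, a ≠ b → Commute (a : G) b → ∀ c, vec c ≠ vec a + vec b

/-- Three different pairwise commuting members with a member as sum. -/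
def Good3 (u v w : ↥D) : Prop := ∃ z : ↥D, vec z = vec u + vec v + vec w

/-- Some three different pairwise commuting members have a member as sum. -/
def HasGood (D : Set G) : Prop :=
  ∃ u v w : ↥D, u ≠ v ∧ u ≠ w ∧ v ≠ w ∧ Commute (u : G) v ∧ Commute (u : G) w ∧ Commute (v : G) w ∧
    Good3 u v w

variable [Finite G]

theorem allSum_or_noSum (H : Cls D) : AllSum D ∨ NoSum D := by
  classical
  by_cases h : NoSum D
  · exact Or.inr h
  left
  unfold NoSum at h
  push Not at h
  obtain ⟨a, b, hab, hc, c, hc'⟩ := h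
  intro a' b' hab' hcab'
  obtain ⟨g, h1, h2⟩ := H.exists_cj_pair a.2 (q := (b : G))
    ⟨b.2, fun e => hab (Subtype.ext e.symm), hc⟩ a'.2 (q' := (b' : G))
    ⟨b'.2, fun e => hab' (Subtype.ext e.symm), hcab'⟩
  refine ⟨mv H g c, ?_⟩
  rw [← vec_mv_add H g hc'.symm, show mv H g a = a' from Subtype.ext h1,
    show mv H g b = b' from Subtype.ext h2]

/-- With all sums, every non-zero vector is a member. -/
theorem full_of_allSum (H : Cls D) (hT : Triangle D) (hA : AllSum D) (v : space D) :
    v ≠ 0 → ∃ a, vec a = v := by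
  induction v using space_induction with
  | zero => exact fun h => absurd rfl h
  | add v a ih =>
    intro hne
    by_cases hv : v = 0
    · exact ⟨a, by rw [hv, zero_add]⟩
    obtain ⟨b, rfl⟩ := ih hv
    by_cases hba : b = a
    · subst hba; exact absurd (space_add_self _) hne
    rcases z2_cases (form D (vec b) (vec a)) with e | e
    · exact hA b a hba (form_vec_zero.1 e)
    · exact exists_vec_add H hT e

theorem isSymp_of_allSum (H : Cls D) (hT : Triangle D) (hA : AllSum D) : IsSymp D :=
  isSymp_of_full H hT (full_of_allSum H hT hA)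

/-- Without sums there are no twins at a member. -/
theorem noTwin_of_noSum (H : Cls D) (hT : Triangle D) (hN : NoSum D) {d : G} (hd : d ∈ D) :
    NoTwin D d := by
  intro y hy y' hy' hyy
  by_contra hne
  let x : ↥D := ⟨d, hd⟩
  let p : ↥D := ⟨y, hy.1⟩
  let p' : ↥D := ⟨y', hy'.1⟩
  have hperp : ∀ b : ↥D, Commute (x : G) b → form D (vec p + vec p') (vec b) = 0 := by
    intro b hb
    rw [LinearMap.map_add₂]
    by_cases hbx : (b : G) = d
    · rw [form_vec_zero.2 (show Commute y b by rw [hbx]; exact hy.2.2.symm),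
        form_vec_zero.2 (show Commute y' b by rw [hbx]; exact hy'.2.2.symm), add_zero]
    have hiff := hyy b ⟨b.2, hbx, hb⟩
    by_cases h : Commute y b
    · rw [form_vec_zero.2 h, form_vec_zero.2 (hiff.2 h), add_zero]
    · rw [form_vec_one.2 h, form_vec_one.2 (fun q => h (hiff.1 q)), z2_add_self]
  rcases eq_of_perp H hT hperp with e | e
  · exact hne (congrArg Subtype.val (vec_injective H (space_eq_of_add_eq_zero e))).symm
  · exact hN p p' (fun q => hne (congrArg Subtype.val q).symm)
      ((hyy y hy).2 (Commute.refl y)).symm x e.symm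

section Good

variable (H : Cls D) (hT : Triangle D) (hN : NoSum D)
include H hT hN

omit hT hN in
theorem good_mv (g : G) {u v w : ↥D} (h : Good3 u v w) :
    Good3 (mv H g u) (mv H g v) (mv H g w) := by
  obtain ⟨z, hz⟩ := h
  refine ⟨mv H g z, Subtype.ext (funext fun t => ?_)⟩
  have h' := congrFun (congrArg Subtype.val hz) (mv H g⁻¹ t)
  show pat (mv H g z) t = pat (mv H g u) t + pat (mv H g v) t + pat (mv H g w) t
  rw [← mv_inv H g t, pat_mv, pat_mv, pat_mv, pat_mv]
  exact h'

omit hT hN in
/-- With a good triple every commuting pair lies in one. -/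
theorem exists_good_third (hg : HasGood D) {u v : ↥D} (huv : u ≠ v) (hc : Commute (u : G) v) :
    ∃ w : ↥D, w ≠ u ∧ w ≠ v ∧ Commute (u : G) w ∧ Commute (v : G) w ∧ Good3 u v w := by
  obtain ⟨u₀, v₀, w₀, h1, h2, h3, c1, c2, c3, hz⟩ := hg
  obtain ⟨g, e1, e2⟩ := H.exists_cj_pair u₀.2 (q := (v₀ : G))
    ⟨v₀.2, fun e => h1 (Subtype.ext e.symm), c1⟩ u.2 (q' := (v : G))
    ⟨v.2, fun e => huv (Subtype.ext e.symm), hc⟩
  have e1' : mv H g u₀ = u := Subtype.ext e1
  have e2' : mv H g v₀ = v := Subtype.ext e2
  refine ⟨mv H g w₀, ?_, ?_, ?_, ?_, ?_⟩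
  · rw [← e1']; exact fun e => h2 (mv_injective H g e).symm
  · rw [← e2']; exact fun e => h3 (mv_injective H g e).symm
  · rw [← e1']; exact commute_cj_iff.2 c2
  · rw [← e2']; exact commute_cj_iff.2 c3
  · rw [← e1', ← e2']; exact good_mv H g hz

/-- The fourth member of a good triple commutes with the three and differs from them. -/
theorem good_fourth {u v w z : ↥D} (huv : u ≠ v) (huw : u ≠ w) (hvw : v ≠ w)
    (c1 : Commute (u : G) v) (c2 : Commute (u : G) w) (c3 : Commute (v : G) w)
    (hz : vec z = vec u + vec v + vec w) :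
    Commute (z : G) u ∧ Commute (z : G) v ∧ Commute (z : G) w ∧ z ≠ u ∧ z ≠ v ∧ z ≠ w := by
  have hne : ∀ {a b : ↥D}, a ≠ b → vec a + vec b ≠ 0 := fun {a b} h e =>
    h (vec_injective H (space_eq_of_add_eq_zero e))
  have d1 := form_vec_zero.2 c1
  have d2 := form_vec_zero.2 c2
  have d3 := form_vec_zero.2 c3
  have d1' := form_vec_zero.2 c1.symm
  have d2' := form_vec_zero.2 c2.symm
  have d3' := form_vec_zero.2 c3.symm
  refine ⟨form_vec_zero.1 ?_, form_vec_zero.1 ?_, form_vec_zero.1 ?_, fun e => ?_, fun e => ?_,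
    fun e => ?_⟩
  · rw [hz, LinearMap.map_add₂, LinearMap.map_add₂, form_isAlt, d1', d2', add_zero, add_zero]
  · rw [hz, LinearMap.map_add₂, LinearMap.map_add₂, form_isAlt, d1, d3', add_zero, add_zero]
  · rw [hz, LinearMap.map_add₂, LinearMap.map_add₂, form_isAlt, d2, d3, add_zero, add_zero]
  · rw [e, add_assoc] at hz
    exact hne hvw (left_eq_add.1 hz)
  · rw [e, add_comm (vec u) (vec v), add_assoc] at hz
    exact hne huw (left_eq_add.1 hz)
  · rw [e] at hz
    exact hne huv (right_eq_add.1 hz)

/-- With a good triple, members at a member with the same other neighbours there coincide. -/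
theorem noSameNb_of_good (hg : HasGood D) {d : G} (hd : d ∈ D) : NoSameNb D d := by
  intro y hy y' hy' hyy
  by_contra hne
  let u : ↥D := ⟨d, hd⟩
  let p : ↥D := ⟨y, hy.1⟩
  let p' : ↥D := ⟨y', hy'.1⟩
  have hnc : ¬ Commute y y' := fun h => ((hyy y' hy').2 ⟨hne, h⟩).1 rfl
  have hpu : p ≠ u := fun e => hy.2.1 (congrArg Subtype.val e)
  obtain ⟨w, hwp, hwu, c1, c2, z, hz⟩ := exists_good_third H hg hpu hy.2.2.symm
  have hkey : ∀ b : ↥D, b ≠ p → b ≠ u → Commute y b → Commute d b → Commute y' b := by
    intro b hbp hbu hyb hdb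
    exact ((hyy b ⟨b.2, fun e => hbu (Subtype.ext e), hdb⟩).2
      ⟨fun e => hbp (Subtype.ext e), hyb⟩).2
  obtain ⟨zp, zu, -, zne, zne', -⟩ := good_fourth H hT hN hpu hwp.symm hwu.symm hy.2.2.symm c1 c2 hz
  have e2 : form D (vec p') (vec w) = 0 := form_vec_zero.2 (hkey w hwp hwu c1 c2)
  have e3 : form D (vec p') (vec z) = 0 := form_vec_zero.2 (hkey z zne zne' zp.symm zu.symm)
  have e4 : form D (vec p') (vec u) = 0 :=
    (form_vec_zero (a := p') (b := u)).2 (show Commute y' d from hy'.2.2.symm)
  rw [hz, map_add, map_add, e2, add_zero, e4, add_zero] at e3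
  exact hnc (form_vec_zero.1 e3).symm

theorem central_of_good (hg : HasGood D) : Central D := fun _ hd =>
  ⟨(noTwin_iff H hd).2 (noTwin_of_noSum H hT hN hd),
    (noSameNb_iff H hd).2 (noSameNb_of_good H hT hN hg hd)⟩

/-- With a good triple all commuting triples are good. -/
theorem good_all (hg : HasGood D) {u v w : ↥D} (huv : u ≠ v) (huw : u ≠ w) (hvw : v ≠ w)
    (c1 : Commute (u : G) v) (c2 : Commute (u : G) w) (c3 : Commute (v : G) w) : Good3 u v w := by
  have hC := central_of_good H hT hN hg
  obtain ⟨w₀, hw0u, hw0v, c4, c5, hgood⟩ := exists_good_third H hg huv c1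
  have hR := res_cls H hC u.2
  have mv' : (v : G) ∈ nb D u := ⟨v.2, fun e => huv (Subtype.ext e.symm), c1⟩
  have mw : (w : G) ∈ nb D u := ⟨w.2, fun e => huw (Subtype.ext e.symm), c2⟩
  have m0 : (w₀ : G) ∈ nb D u := ⟨w₀.2, fun e => hw0u (Subtype.ext e), c4⟩
  have hI : ∀ {t : G} (ht : t ∈ nb D u), t ≠ v → Commute (v : G) t →
      H44.InDx (res D u) (rmk mv') (rmk ht) := fun {t} ht hne hc =>
    ⟨rmk_mem ht, fun e => hne (rmk_inj H hC u.2 ht mv' e), (commute_rmk H mv' ht).2 hc⟩
  have hchain := H44.dx_connected hR.cl hR.sol (rmk_mem mv')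
    (hI m0 (fun e => hw0v (Subtype.ext e)) c5) (hI mw (fun e => hvw (Subtype.ext e.symm)) c3)
  suffices key : ∀ x, Relation.ReflTransGen (H44.dxAdj (res D u) (rmk mv')) (rmk m0) x →
      ∀ t : ↥D, ∀ ht : (t : G) ∈ nb D u, rmk ht = x → Good3 u v t from
    key _ hchain w mw rfl
  intro x hx
  induction hx with
  | refl =>
    intro t ht e
    have : t = w₀ := Subtype.ext (rmk_inj H hC u.2 ht m0 e)
    rwa [this]
  | tail hab hstep ih =>
    intro t ht e
    obtain ⟨s, hs, hs'⟩ := mem_res.1 hstep.1.1
    have hst := hstep.2.2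
    rw [← hs', ← e, commute_rmk H hs ht] at hst
    obtain ⟨hsv, hcs⟩ : s ≠ v ∧ Commute (v : G) s := by
      have h := hstep.1
      rw [← hs'] at h
      exact ⟨fun q => h.2.1 (by subst q; rfl), (commute_rmk H mv' hs).1 h.2.2⟩
    obtain ⟨htv, hct⟩ : (t : G) ≠ v ∧ Commute (v : G) t := by
      have h := hstep.2.1
      rw [← e] at h
      exact ⟨fun q => h.2.1 (by
        have : t = v := Subtype.ext q
        subst this; rfl), (commute_rmk H mv' ht).1 h.2.2⟩
    let s' : ↥D := ⟨s, hs.1⟩
    obtain ⟨z, hz⟩ := ih s' hs hs'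
    obtain ⟨r, hr⟩ := exists_vec_add H hT (a := s') (b := t) (form_vec_one.2 hst)
    have hzr : form D (vec z) (vec r) = 1 := by
      have a1 : form D (vec u) (vec s') = 0 := form_vec_zero.2 hs.2.2
      have a2 : form D (vec v) (vec s') = 0 := form_vec_zero.2 hcs
      have a3 : form D (vec u) (vec t) = 0 := form_vec_zero.2 ht.2.2
      have a4 : form D (vec v) (vec t) = 0 := form_vec_zero.2 hct
      have a5 : form D (vec s') (vec t) = 1 := form_vec_one.2 hst
      rw [hz, hr]
      simp only [map_add, LinearMap.add_apply, a1, a2, a3, a4, a5, form_isAlt _, zero_add]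
    obtain ⟨c, hc⟩ := exists_vec_add H hT hzr
    refine ⟨c, ?_⟩
    rw [hc, hz, hr, ← add_assoc, add_assoc (vec u + vec v), space_add_self, add_zero]

omit H hT hN in
open Classical in
/-- The indicator of the members. -/
noncomputable def qf (D : Set G) (v : space D) : ZMod 2 := if ∃ a, vec a = v then 1 else 0

omit H hT hN in
theorem qf_vec (a : ↥D) : qf D (vec a) = 1 := by classical exact if_pos ⟨a, rfl⟩

omit hT hN in
theorem qf_zero : qf D (0 : space D) = 0 := by
  classical exact if_neg fun ⟨a, ha⟩ => vec_ne_zero H a ha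

omit H hT hN in
theorem qf_eq_one {v : space D} : qf D v = 1 ↔ ∃ a, vec a = v := by
  classical
  by_cases h : ∃ a, vec a = v <;> simp [qf, h]

/-- The shape of a vector. -/
def Shape (v : space D) : Prop :=
  v = 0 ∨ (∃ a, vec a = v) ∨ ∃ a b : ↥D, a ≠ b ∧ Commute (a : G) b ∧ v = vec a + vec b

omit hT in
theorem qf_pair {a b : ↥D} (h : a ≠ b) (hc : Commute (a : G) b) : qf D (vec a + vec b) = 0 := by
  classical exact if_neg fun ⟨c, h'⟩ => hN a b h hc c h'

theorem shape_add (hg : HasGood D) {v : space D} (hv : Shape v) (a : ↥D) :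
    Shape (v + vec a) ∧ qf D (v + vec a) = qf D v + 1 + form D v (vec a) := by
  rcases hv with rfl | ⟨b, rfl⟩ | ⟨b, c, hbc, hcom, rfl⟩
  · refine ⟨Or.inr (Or.inl ⟨a, (zero_add _).symm⟩), ?_⟩
    rw [zero_add, qf_vec, qf_zero H, map_zero, LinearMap.zero_apply]
    rfl
  · by_cases hba : b = a
    · subst hba
      refine ⟨Or.inl (space_add_self _), ?_⟩
      rw [space_add_self, qf_zero H, qf_vec, form_isAlt]
      rfl
    rcases z2_cases (form D (vec b) (vec a)) with e | e
    · refine ⟨Or.inr (Or.inr ⟨b, a, hba, form_vec_zero.1 e, rfl⟩), ?_⟩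
      rw [qf_pair H hN hba (form_vec_zero.1 e), qf_vec, e]
      rfl
    · obtain ⟨c, hc⟩ := exists_vec_add H hT e
      refine ⟨Or.inr (Or.inl ⟨c, hc⟩), ?_⟩
      rw [← hc, qf_vec, qf_vec, e]
      rfl
  · rw [qf_pair H hN hbc hcom, LinearMap.map_add₂]
    have d1 : form D (vec b) (vec c) = 0 := form_vec_zero.2 hcom
    by_cases hab : a = b
    · subst hab
      have hva : vec a + vec c + vec a = vec c := by
        rw [add_comm (vec a) (vec c), space_add_cancel]
      refine ⟨Or.inr (Or.inl ⟨c, hva.symm⟩), ?_⟩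
      rw [hva, qf_vec, form_isAlt, form_vec_zero.2 hcom.symm]
      rfl
    by_cases hac : a = c
    · subst hac
      refine ⟨Or.inr (Or.inl ⟨b, (space_add_cancel _ _).symm⟩), ?_⟩
      rw [space_add_cancel, qf_vec, form_isAlt, d1]
      rfl
    rcases z2_cases (form D (vec b) (vec a)) with e | e <;>
      rcases z2_cases (form D (vec c) (vec a)) with e' | e'
    · obtain ⟨z, hz⟩ := good_all H hT hN hg hbc (Ne.symm hab) (Ne.symm hac) hcom
        (form_vec_zero.1 e) (form_vec_zero.1 e')
      refine ⟨Or.inr (Or.inl ⟨z, hz⟩), ?_⟩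
      rw [← hz, qf_vec, e, e']
      rfl
    · obtain ⟨r, hr⟩ := exists_vec_add H hT e'
      have hrb : form D (vec b) (vec r) = 0 := by rw [hr, map_add, d1, e, add_zero]
      have hne : b ≠ r := fun q => by
        have h1 : form D (vec b) (vec a) = 1 := by
          rw [q, hr, LinearMap.map_add₂, e', form_isAlt, add_zero]
        exact zero_ne_one (e.symm.trans h1)
      have hs : vec b + vec c + vec a = vec b + vec r := by rw [hr, add_assoc]
      refine ⟨Or.inr (Or.inr ⟨b, r, hne, form_vec_zero.1 hrb, hs⟩), ?_⟩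
      rw [hs, qf_pair H hN hne (form_vec_zero.1 hrb), e, e']
      rfl
    · obtain ⟨r, hr⟩ := exists_vec_add H hT e
      have hrc : form D (vec r) (vec c) = 0 := by
        rw [hr, LinearMap.map_add₂, d1, form_comm, e', add_zero]
      have hne : r ≠ c := fun q => by
        have h1 : form D (vec c) (vec a) = 1 := by
          rw [← q, hr, LinearMap.map_add₂, e, form_isAlt, add_zero]
        exact zero_ne_one (e'.symm.trans h1)
      have hs : vec b + vec c + vec a = vec r + vec c := by rw [hr, add_right_comm]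
      refine ⟨Or.inr (Or.inr ⟨r, c, hne, form_vec_zero.1 hrc, hs⟩), ?_⟩
      rw [hs, qf_pair H hN hne (form_vec_zero.1 hrc), e, e']
      rfl
    · obtain ⟨r, hr⟩ := exists_vec_add H hT e
      have hrc : form D (vec r) (vec c) = 1 := by
        rw [hr, LinearMap.map_add₂, d1, form_comm, e', zero_add]
      obtain ⟨z, hz⟩ := exists_vec_add H hT hrc
      have hs : vec b + vec c + vec a = vec z := by rw [hz, hr, add_right_comm]
      refine ⟨Or.inr (Or.inl ⟨z, hs.symm⟩), ?_⟩
      rw [hs, qf_vec, e, e']
      rfl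

theorem shape_all (hg : HasGood D) (v : space D) : Shape v := by
  induction v using space_induction with
  | zero => exact Or.inl rfl
  | add v a ih => exact (shape_add H hT hN hg ih a).1

theorem qf_add (hg : HasGood D) (v w : space D) :
    qf D (v + w) = qf D v + qf D w + form D v w := by
  induction w using space_induction with
  | zero => rw [add_zero, qf_zero H, map_zero, add_zero, add_zero]
  | add w a ih =>
    rw [← add_assoc, (shape_add H hT hN hg (shape_all H hT hN hg _) a).2,
      (shape_add H hT hN hg (shape_all H hT hN hg w) a).2, ih, LinearMap.map_add₂, map_add]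
    ring

theorem qf_polar (hg : HasGood D) (v w : space D) : QuadraticMap.polar (qf D) v w = form D v w := by
  rw [QuadraticMap.polar, qf_add H hT hN hg]
  ring

theorem six_le_finrank (Q : QuadraticForm (ZMod 2) (space D)) (hQ : Orthogonal.Nondeg Q)
    (hpol : ∀ v w, QuadraticMap.polar Q v w = form D v w) (hg : HasGood D) :
    6 ≤ finrank (ZMod 2) (space D) := by
  obtain ⟨u, v, w, h1, h2, h3, c1, c2, c3, z, hz⟩ := hg
  let L : (Fin 3 → ZMod 2) →ₗ[ZMod 2] space D := Fintype.linearCombination (ZMod 2) ![vec u, vec v, vec w]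
  have happ : ∀ c, L c = c 0 • vec u + c 1 • vec v + c 2 • vec w := fun c => by
    simp [L, Fintype.linearCombination_apply, Fin.sum_univ_three]
  have hne : ∀ {a b : ↥D}, a ≠ b → vec a + vec b ≠ 0 := fun {a b} h e =>
    h (vec_injective H (space_eq_of_add_eq_zero e))
  have hinj : Function.Injective L := by
    refine (injective_iff_map_eq_zero L).2 fun c hc => ?_
    rw [happ] at hc
    have hcases := fun i => z2_cases (c i)
    rcases hcases 0 with e0 | e0 <;> rcases hcases 1 with e1 | e1 <;>
      rcases hcases 2 with e2 | e2 <;>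
        simp only [e0, e1, e2, zero_smul, one_smul, zero_add, add_zero] at hc
    · funext i; fin_cases i <;> assumption
    · exact absurd hc (vec_ne_zero H w)
    · exact absurd hc (vec_ne_zero H v)
    · exact absurd hc (hne h3)
    · exact absurd hc (vec_ne_zero H u)
    · exact absurd hc (hne h2)
    · exact absurd hc (hne h1)
    · exact absurd (hz.trans hc) (vec_ne_zero H z)
  have hrank : finrank (ZMod 2) (LinearMap.range L) = 3 := by
    rw [LinearMap.finrank_range_of_inj hinj]; simp
  have hle : LinearMap.range L ≤ Orthogonal.perp Q (LinearMap.range L) := by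
    rintro _ ⟨c, rfl⟩
    rw [Orthogonal.mem_perp]
    rintro _ ⟨c', rfl⟩
    rw [hpol, happ, happ]
    simp only [map_add, map_smul, LinearMap.add_apply, LinearMap.smul_apply, form_isAlt _,
      form_vec_zero.2 c1, form_vec_zero.2 c2, form_vec_zero.2 c3, form_vec_zero.2 c1.symm,
      form_vec_zero.2 c2.symm, form_vec_zero.2 c3.symm, smul_zero, add_zero]
  have h1' := Submodule.finrank_mono hle
  have h2' := hQ.finrank_add_perp (LinearMap.range L)
  omega

/-- With a good triple the class is an orthogonal transvection class. -/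
theorem isOrthTwo_of_good (hg : HasGood D) : IsOrthTwo D := by
  classical
  have hpol := qf_polar H hT hN hg
  let Q : QuadraticForm (ZMod 2) (space D) := QuadraticMap.ofPolar (qf D)
    (fun c x => by
      rcases z2_cases c with rfl | rfl
      · simp [qf_zero H]
      · simp)
    (fun x x' y => by simp only [hpol, LinearMap.map_add₂])
    (fun c x y => by simp only [hpol, LinearMap.map_smul₂])
  have hQpol : ∀ v w, QuadraticMap.polar Q v w = form D v w := hpol
  have hQ : Orthogonal.Nondeg Q := fun x hx => eq_zero_of_form' fun y => (hQpol x y).symm.trans (hx y)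
  obtain ⟨m, -, hm, -⟩ := Symplectic.exists_std_equiv form_isAlt (form_nondegenerate (D := D))
  have h6 := six_le_finrank H hT hN Q hQ hQpol hg
  have key : ∀ {ι : Type} [Fintype ι] [DecidableEq ι] (P : QuadraticForm (ZMod 2) (ι → ZMod 2))
      (E : (ι → ZMod 2) ≃ₗ[ZMod 2] space D), Fintype.card ι ≠ 4 →
      (∀ x, Q (E x) = P x) → IsoTo D (orthTv (⇑P)) := by
    intro ι _ _ P E hn hE
    have hp : ∀ x y, QuadraticMap.polar P x y = QuadraticMap.polar Q (E x) (E y) := fun x y => by
      simp only [QuadraticMap.polar, ← hE, map_add]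
    refine isoTo_orth H hT (Q := P) (fun x hx => ?_) hn E.symm (fun u v => ?_) fun x => ?_
    · refine E.map_eq_zero_iff.1 (hQ _ fun y => ?_)
      rw [← E.apply_symm_apply y, ← hp]
      exact hx _
    · rw [hp, E.apply_symm_apply, E.apply_symm_apply, hQpol]
    · rw [← hE]
      show qf D (E x) = 1 ↔ _
      rw [qf_eq_one]
      exact exists_congr fun a => E.symm_apply_eq.symm
  obtain ⟨k, rfl⟩ : ∃ k, m = k + 1 := ⟨m - 1, by omega⟩
  rcases hQ.classify_even hm with ⟨E, hE⟩ | ⟨ζ, E, hζ, hE⟩
  · refine Or.inl ⟨k + 1, by omega, ?_⟩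
    have := key (Orthogonal.formPlus (ZMod 2) (k + 1)) E
      (by simp only [Fintype.card_sum, Fintype.card_fin]; omega) hE
    rwa [Orthogonal.formPlus_coe] at this
  · obtain rfl : ζ = 1 := (z2_cases ζ).resolve_left fun h => hζ 0 (by rw [h]; ring)
    refine Or.inr ⟨k, by omega, ?_⟩
    have := key (Orthogonal.formMinus (ZMod 2) k 1 1) E
      (by simp only [Fintype.card_sum, Fintype.card_fin]; omega) hE
    rwa [Orthogonal.formMinus_coe] at this

end Good

end Cfsg.Agent.H7Fischer
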